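import Groth.Agent.ApproxZLib.Approx

/-! Absolute Noetherian approximation. -/

set_option autoImplicit false
set_option backward.isDefEq.respectTransparency false
set_option linter.style.haveILetI false

universe u

open CategoryTheory CategoryTheory.Limits AlgebraicGeometry Opposite

noncomputable section

namespace Groth.Agent.ApproxZLib

/-- Every quasi-compact quasi-separated scheme is a limit of schemes of finite type over `ℤ` with affine
transition maps. -/
theorem exists_absolute_approximation (S : Scheme.{u}) [CompactSpace S] [QuasiSeparatedSpace S] :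
    ∃ (J : Type u) (_ : Preorder J) (_ : IsDirected J (· ≤ ·)) (_ : Nonempty J) (D : Jᵒᵖ ⥤ Scheme.{u})
      (π : (Functor.const Jᵒᵖ).obj S ⟶ D), Nonempty (IsLimit (Cone.mk S π)) ∧
      (∀ (j j' : Jᵒᵖ) (a : j ⟶ j'), IsAffineHom (D.map a)) ∧
      ∀ j, CompactSpace (D.obj j) ∧ QuasiSeparatedSpace (D.obj j) ∧
        LocallyOfFiniteType (specULiftZIsTerminal.from (D.obj j)) := by
  let D₀ : PUnit.{u + 1}ᵒᵖ ⥤ Scheme.{u} := (Functor.const _).obj ∅
  let c₀ : Cone D₀ := { pt := ∅, π := 𝟙 _ }
  have hc₀ : IsLimit c₀ :=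
    { lift := fun s => s.π.app (op PUnit.unit)
      fac := fun s j => by rw [Subsingleton.elim j (op PUnit.unit)]; exact Category.comp_id _
      uniq := fun s m hm => (Category.comp_id m).symm.trans (hm (op PUnit.unit)) }
  haveI : ∀ {i j : PUnit.{u + 1}ᵒᵖ} (a : i ⟶ j), IsAffineHom (D₀.map a) := fun a =>
    inferInstanceAs (IsAffineHom (𝟙 _))
  haveI : ∀ i, CompactSpace (D₀.obj i) := fun i => inferInstanceAs (CompactSpace (∅ : Scheme.{u}))
  haveI : ∀ i, QuasiSeparatedSpace (D₀.obj i) := fun i => inferInstanceAs (QuasiSeparatedSpace (∅ : Scheme.{u}))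
  have hft : ∀ i, LocallyOfFiniteType (specULiftZIsTerminal.from (D₀.obj i)) := fun i => by
    show LocallyOfFiniteType (specULiftZIsTerminal.from (∅ : Scheme.{u}))
    rw [specULiftZIsTerminal.hom_ext (specULiftZIsTerminal.from (∅ : Scheme.{u})) (Scheme.emptyTo _)]
    infer_instance
  obtain ⟨E⟩ := nonempty_ext (c := c₀) hc₀ (Scheme.emptyTo S) hft
  exact ⟨E.J, E.preorder, E.directed, E.nonempty, E.DS, E.π, ⟨E.isLimit⟩, E.affine,
    fun j => ⟨E.compact j, quasiSeparated_of_ft (E.ft j), E.ft j⟩⟩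

end Groth.Agent.ApproxZLib
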