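import Groth.Agent.ApproxZLib.Step

/-! Absolute Noetherian approximation, relative to a quasi-compact open. -/

set_option autoImplicit false
set_option backward.isDefEq.respectTransparency false
set_option backward.defeqAttrib.useBackward true
set_option linter.unusedSectionVars false
set_option linter.style.haveILetI false

universe u

open CategoryTheory CategoryTheory.Limits AlgebraicGeometry TopologicalSpace Opposite

noncomputable section

namespace Groth.Agent.ApproxZLib

theorem quasiSeparated_of_ft {X : Scheme.{u}} (h : LocallyOfFiniteType (specULiftZIsTerminal.from X)) :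
    QuasiSeparatedSpace X := by
  haveI := h
  haveI : IsNoetherianRing (ULift.{u} ℤ) := isNoetherianRing_of_ringEquiv ℤ ULift.ringEquiv.symm
  haveI : IsLocallyNoetherian X := LocallyOfFiniteType.isLocallyNoetherian (specULiftZIsTerminal.from X)
  infer_instance

variable {I : Type u} [Preorder I] {D : Iᵒᵖ ⥤ Scheme.{u}} {c : Cone D} {T T' : Scheme.{u}}

theorem range_comp' {X Y Z : Scheme.{u}} (f : X ⟶ Y) (g : Y ⟶ Z) : Set.range (f ≫ g) = g '' Set.range f := by
  rw [Scheme.Hom.comp_base, TopCat.coe_comp, Set.range_comp]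

/-- Composition of extensions. -/
theorem Ext.nonempty_trans {v : c.pt ⟶ T} (E₁ : Ext c v) (w : T ⟶ T') [IsOpenImmersion w]
    (E₂ : letI := E₁.preorder; Ext (Cone.mk T E₁.π) w) : Nonempty (Ext c (v ≫ w)) := by
  letI := E₁.preorder
  letI := E₂.preorder
  haveI := E₁.isOpenImmersion
  haveI := E₂.isOpenImmersion
  refine ⟨{ J := E₂.J, preorder := E₂.preorder, directed := E₂.directed, nonempty := E₂.nonempty, DS := E₂.DS,
            π := E₂.π, isLimit := E₂.isLimit, affine := E₂.affine, compact := E₂.compact, ft := E₂.ft,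
            α := E₁.α.comp E₂.α,
            ν := { app := fun j => E₁.ν.app (op (E₂.α j.unop)) ≫ E₂.ν.app j, naturality := ?_ },
            isOpenImmersion := fun j => inferInstance, cart := ?_, comm := ?_, pre := ?_ }⟩
  · intro j j' a
    have h1 := E₁.ν.naturality (E₂.α.monotone.functor.op.map a)
    have h2 := E₂.ν.naturality a
    rw [Category.assoc, ← h2]
    exact (reassoc_of% h1) (E₂.ν.app j')
  · intro j j' a
    rw [range_comp', range_comp']
    have h1 := E₁.cart _ _ (E₂.α.monotone.functor.op.map a)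
    have h2 := E₂.cart _ _ a
    have hn : ∀ p, E₂.DS.map a (E₂.ν.app j p) = E₂.ν.app j' ((E₁.DS.map (E₂.α.monotone.functor.op.map a)) p) := fun p =>
      (congrArg (fun m => m p) (E₂.ν.naturality a)).symm
    ext z
    constructor
    · rintro ⟨q, hq, e⟩
      obtain ⟨p, rfl⟩ : z ∈ Set.range (E₂.ν.app j) := h2.le ⟨q, e⟩
      have := (E₂.ν.app j').isOpenEmbedding.injective (e.trans (hn p))
      subst this
      exact ⟨p, h1.le hq, rfl⟩
    · rintro ⟨p, hp, rfl⟩
      exact ⟨_, h1.ge hp, (hn p).symm⟩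
  · intro j
    rw [Category.assoc, E₂.comm]
    exact (reassoc_of% (E₁.comm (op (E₂.α j.unop)))) (E₂.ν.app j)
  · intro j
    rw [range_comp', range_comp']
    have h2 := E₂.pre j
    have hn : ∀ p, E₂.π.app j (w p) = E₂.ν.app j (E₁.π.app (op (E₂.α j.unop)) p) := fun p =>
      congrArg (fun m => m p) (E₂.comm j)
    ext z
    constructor
    · rintro ⟨q, hq, e⟩
      obtain ⟨p, rfl⟩ : z ∈ Set.range w := h2.le ⟨q, e⟩
      have := (E₂.ν.app j).isOpenEmbedding.injective (e.trans (hn p))
      subst this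
      exact ⟨p, (E₁.pre (op (E₂.α j.unop))).le hq, rfl⟩
    · rintro ⟨p, hp, rfl⟩
      exact ⟨_, (E₁.pre (op (E₂.α j.unop))).ge hp, (hn p).symm⟩

/-- The trivial extension. -/
theorem Ext.nonempty_refl [IsDirected I (· ≤ ·)] [Nonempty I] (v : c.pt ⟶ T) [IsIso v] (hc : IsLimit c)
    [∀ {i j} (a : i ⟶ j), IsAffineHom (D.map a)] [∀ i, CompactSpace (D.obj i)]
    (hft : ∀ i, LocallyOfFiniteType (specULiftZIsTerminal.from (D.obj i))) : Nonempty (Ext c v) := by
  haveI : ∀ j, IsIso ((𝟙 D : D ⟶ D).app j) := fun j => inferInstance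
  refine ⟨{ J := I, preorder := inferInstance, directed := inferInstance, nonempty := inferInstance, DS := D,
            π := { app := fun j => inv v ≫ c.π.app j, naturality := fun j j' a => ?_ },
            isLimit := hc.ofIsoLimit (Cone.ext (asIso v) (fun j => ?_)), affine := fun _ _ a => inferInstance,
            compact := fun j => inferInstance, ft := hft, α := OrderHom.id,
            ν := { app := fun j => 𝟙 _, naturality := fun j j' a => ?_ },
            isOpenImmersion := fun j => (inferInstance : IsOpenImmersion (𝟙 (D.obj j))), cart := fun j j' a => ?_,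
            comm := fun j => ?_, pre := fun j => ?_ }⟩
  · exact (Category.id_comp _).trans ((congrArg (inv v ≫ ·) (c.w a).symm).trans (Category.assoc _ _ _).symm)
  · exact (IsIso.hom_inv_id_assoc v _).symm
  · exact (Category.comp_id _).trans (Category.id_comp _).symm
  · have : Function.Surjective (𝟙 (D.obj j) : D.obj j ⟶ D.obj j) := fun x => ⟨x, rfl⟩
    have h' : Function.Surjective (𝟙 (D.obj j') : D.obj j' ⟶ D.obj j') := fun x => ⟨x, rfl⟩
    exact (congrArg _ h'.range_eq).trans (Set.preimage_univ.trans this.range_eq.symm)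
  · exact (IsIso.hom_inv_id_assoc v _).trans (Category.comp_id _).symm
  · have h' : Function.Surjective (𝟙 (D.obj j) : D.obj j ⟶ D.obj j) := fun x => ⟨x, rfl⟩
    exact (congrArg _ h'.range_eq).trans (Set.preimage_univ.trans (Surjective.surj (f := v)).range_eq.symm)

/-- Noetherian approximation relative to a quasi-compact open. -/
theorem nonempty_ext [IsDirected I (· ≤ ·)] [Nonempty I] {S : Scheme.{u}} [CompactSpace S] [QuasiSeparatedSpace S]
    (hc : IsLimit c) (v : c.pt ⟶ S) [IsOpenImmersion v]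
    [∀ {i j} (a : i ⟶ j), IsAffineHom (D.map a)] [∀ i, CompactSpace (D.obj i)]
    (hft : ∀ i, LocallyOfFiniteType (specULiftZIsTerminal.from (D.obj i))) : Nonempty (Ext c v) := by
  let vO : ∀ O : S.Opens, c.pt ⟶ (v.opensRange ⊔ O : S.Opens).toScheme := fun O =>
    IsOpenImmersion.lift (v.opensRange ⊔ O).ι v (by
      rw [Scheme.Opens.range_ι]; exact fun z hz => Or.inl hz)
  haveI : ∀ O, IsOpenImmersion (vO O) := fun O => by
    have : IsOpenImmersion (vO O ≫ (v.opensRange ⊔ O).ι) := by
      rw [IsOpenImmersion.lift_fac]; infer_instance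
    exact IsOpenImmersion.of_comp _ (v.opensRange ⊔ O).ι
  suffices key : Nonempty (Ext c (vO ⊤)) by
    obtain ⟨E⟩ := key
    letI := E.preorder
    haveI := E.directed
    haveI := E.nonempty
    haveI : IsIso (v.opensRange ⊔ (⊤ : S.Opens)).ι := by
      refine (isIso_iff_isOpenImmersion_and_surjective _).mpr ⟨inferInstance, ⟨fun x => ?_⟩⟩
      exact ⟨⟨x, Or.inr trivial⟩, rfl⟩
    haveI : ∀ {i j} (a : i ⟶ j), IsAffineHom (E.DS.map a) := fun a => E.affine _ _ a
    haveI := E.compact
    obtain ⟨E₂⟩ := Ext.nonempty_refl (c := Cone.mk _ E.π) (v.opensRange ⊔ (⊤ : S.Opens)).ι E.isLimit E.ft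
    have := E.nonempty_trans (v.opensRange ⊔ (⊤ : S.Opens)).ι E₂
    rwa [IsOpenImmersion.lift_fac] at this
  refine compact_open_induction_on (P := fun O => Nonempty (Ext c (vO O))) ⊤ isCompact_univ ?_ fun O _ U ih => ?_
  · haveI : IsIso (vO ⊥) := by
      refine (isIso_iff_isOpenImmersion_and_surjective _).mpr ⟨inferInstance, ⟨fun x => ?_⟩⟩
      rcases x.2 with ⟨p, hp⟩ | h
      · refine ⟨p, (v.opensRange ⊔ ⊥).ι.isOpenEmbedding.injective ?_⟩
        rw [← Scheme.Hom.comp_apply, IsOpenImmersion.lift_fac]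
        exact hp
      · exact h.elim
    exact Ext.nonempty_refl (vO ⊥) hc hft
  · obtain ⟨E⟩ := ih
    letI := E.preorder
    haveI := E.directed
    haveI := E.nonempty
    haveI : ∀ {i j} (a : i ⟶ j), IsAffineHom (E.DS.map a) := fun a => E.affine _ _ a
    haveI := E.compact
    haveI : ∀ j, QuasiSeparatedSpace (E.DS.obj j) := fun j => quasiSeparated_of_ft (E.ft j)
    let O₁ : S.Opens := v.opensRange ⊔ O
    let O₂ : S.Opens := v.opensRange ⊔ (O ⊔ U.1)
    have hle : O₁ ≤ O₂ := sup_le le_sup_left (le_sup_left.trans le_sup_right)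
    haveI : QuasiSeparatedSpace O₂.toScheme := quasiSeparatedSpace_of_quasiSeparated O₂.ι
    have hU : IsAffineOpen (O₂.ι ⁻¹ᵁ U.1) := U.2.preimage_of_isOpenImmersion O₂.ι (by
      rw [Scheme.Opens.opensRange_ι]; exact le_sup_right.trans le_sup_right)
    obtain ⟨E₂⟩ := nonempty_ext_of_affine (T := O₂.toScheme) (c := Cone.mk O₁.toScheme E.π) (v := S.homOfLE hle)
      (U := O₂.ι ⁻¹ᵁ U.1) E.isLimit hU E.ft (Set.eq_univ_of_forall fun x => by
        rcases x.2 with h | h | h
        · exact Or.inl ⟨⟨O₂.ι x, Or.inl h⟩, O₂.ι.isOpenEmbedding.injective (by rw [← Scheme.Hom.comp_apply, Scheme.homOfLE_ι]; rfl)⟩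
        · exact Or.inl ⟨⟨O₂.ι x, Or.inr h⟩, O₂.ι.isOpenEmbedding.injective (by rw [← Scheme.Hom.comp_apply, Scheme.homOfLE_ι]; rfl)⟩
        · exact Or.inr h)
    have e : vO O ≫ S.homOfLE hle = vO (O ⊔ U.1) := by
      rw [← cancel_mono O₂.ι, Category.assoc, Scheme.homOfLE_ι]
      exact (IsOpenImmersion.lift_fac _ _ _).trans (IsOpenImmersion.lift_fac _ _ _).symm
    exact e ▸ E.nonempty_trans (S.homOfLE hle) E₂

end Groth.Agent.ApproxZLib
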