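import Mathlib

/-! Extensions of a limit presentation from an open subscheme. -/

set_option autoImplicit false
set_option backward.isDefEq.respectTransparency false

universe u

open CategoryTheory CategoryTheory.Limits AlgebraicGeometry Opposite

noncomputable section

namespace Groth.Agent.ApproxZLib

/-- A presentation of `T` as a limit of schemes of finite type over `ℤ` extending one of the open `v`. -/
structure Ext {T : Scheme.{u}} {I : Type u} [Preorder I] {D : Iᵒᵖ ⥤ Scheme.{u}} (c : Cone D) (v : c.pt ⟶ T) where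
  J : Type u
  preorder : Preorder J
  directed : IsDirected J (· ≤ ·)
  nonempty : Nonempty J
  DS : Jᵒᵖ ⥤ Scheme.{u}
  π : (Functor.const Jᵒᵖ).obj T ⟶ DS
  isLimit : IsLimit (Cone.mk T π)
  affine : ∀ (j j' : Jᵒᵖ) (a : j ⟶ j'), IsAffineHom (DS.map a)
  compact : ∀ j, CompactSpace (DS.obj j)
  ft : ∀ j, LocallyOfFiniteType (specULiftZIsTerminal.from (DS.obj j))
  α : J →o I
  ν : α.monotone.functor.op ⋙ D ⟶ DS
  isOpenImmersion : ∀ j, IsOpenImmersion (ν.app j)
  cart : ∀ (j j' : Jᵒᵖ) (a : j ⟶ j'), DS.map a ⁻¹' Set.range (ν.app j') = Set.range (ν.app j)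
  comm : ∀ j, v ≫ π.app j = c.π.app (op (α j.unop)) ≫ ν.app j
  pre : ∀ j, π.app j ⁻¹' Set.range (ν.app j) = Set.range v

end Groth.Agent.ApproxZLib
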