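import Mathlib
import Groth.Agent.AffLim.Existence

/-! Pushouts of open immersions, and cones over systems covered by two open subsystems. -/

set_option autoImplicit false
set_option backward.isDefEq.respectTransparency false
set_option backward.defeqAttrib.useBackward true
set_option linter.unusedSectionVars false
set_option linter.style.haveILetI false

universe u

open CategoryTheory CategoryTheory.Limits AlgebraicGeometry TopologicalSpace

noncomputable section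

namespace Groth.Agent.ApproxZLib

section pushout

variable {P Q R : Scheme.{u}} (r₁ : R ⟶ P) (r₂ : R ⟶ Q) [IsOpenImmersion r₁] [IsOpenImmersion r₂]

instance isOpenImmersion_pushout_inl : IsOpenImmersion (pushout.inl r₁ r₂) :=
  inferInstanceAs (IsOpenImmersion (colimit.ι (span r₁ r₂) WalkingSpan.left))

instance isOpenImmersion_pushout_inr : IsOpenImmersion (pushout.inr r₁ r₂) :=
  inferInstanceAs (IsOpenImmersion (colimit.ι (span r₁ r₂) WalkingSpan.right))

theorem pushout_cover (z : ↥(pushout r₁ r₂)) :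
    (∃ p, pushout.inl r₁ r₂ p = z) ∨ ∃ q, pushout.inr r₁ r₂ q = z := by
  obtain ⟨j, p, hp⟩ := (Scheme.IsLocallyDirected.openCover (span r₁ r₂)).exists_eq z
  change colimit.ι (span r₁ r₂) j p = z at hp
  rcases j with _ | (_ | _)
  · refine .inl ⟨r₁ p, ?_⟩
    rw [← hp, ← Scheme.Hom.comp_apply]
    exact congrArg (fun m : R ⟶ pushout r₁ r₂ => m p) (colimit.w (span r₁ r₂) WalkingSpan.Hom.fst)
  · exact .inl ⟨p, hp⟩
  · exact .inr ⟨p, hp⟩

theorem pushout_inter {p : P} {q : Q} (h : pushout.inl r₁ r₂ p = pushout.inr r₁ r₂ q) :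
    ∃ w, r₁ w = p ∧ r₂ w = q := by
  obtain ⟨k, fi, fj, w, h1, h2⟩ := (Scheme.IsLocallyDirected.ι_eq_ι_iff (span r₁ r₂)
    (i := WalkingSpan.left) (j := WalkingSpan.right) (xi := p) (xj := q)).1 h
  rcases k with _ | (_ | _)
  · rcases fi with _ | _
    rcases fj with _ | _
    exact ⟨w, h1, h2⟩
  · exact nomatch fj
  · exact nomatch fi

theorem inl_eq_inr_of (w : R) : pushout.inl r₁ r₂ (r₁ w) = pushout.inr r₁ r₂ (r₂ w) := by
  rw [← Scheme.Hom.comp_apply, pushout.condition, Scheme.Hom.comp_apply]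

theorem compactSpace_pushout [CompactSpace P] [CompactSpace Q] : CompactSpace ↥(pushout r₁ r₂) := ⟨by
  rw [show (Set.univ : Set ↥(pushout r₁ r₂)) = Set.range (pushout.inl r₁ r₂) ∪ Set.range (pushout.inr r₁ r₂) from
    (Set.eq_univ_of_forall fun z => pushout_cover r₁ r₂ z).symm]
  exact (isCompact_range (pushout.inl r₁ r₂).continuous).union (isCompact_range (pushout.inr r₁ r₂).continuous)⟩

variable {P' Q' R' : Scheme.{u}} (s₁ : R' ⟶ P') (s₂ : R' ⟶ Q') [IsOpenImmersion s₁] [IsOpenImmersion s₂]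
  (a : P ⟶ P') (b : Q ⟶ Q') (e : R ⟶ R') (h₁ : r₁ ≫ a = e ≫ s₁) (h₂ : r₂ ≫ b = e ≫ s₂)

theorem map_inl (p : P) : pushout.map r₁ r₂ s₁ s₂ a b e h₁ h₂ (pushout.inl r₁ r₂ p) = pushout.inl s₁ s₂ (a p) := by
  simp only [← Scheme.Hom.comp_apply, pushout.inl_desc]

theorem map_inr (q : Q) : pushout.map r₁ r₂ s₁ s₂ a b e h₁ h₂ (pushout.inr r₁ r₂ q) = pushout.inr s₁ s₂ (b q) := by
  simp only [← Scheme.Hom.comp_apply, pushout.inr_desc]

theorem preimage_range_inl (hb : ∀ q, b q ∈ Set.range s₂ → q ∈ Set.range r₂) :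
    pushout.map r₁ r₂ s₁ s₂ a b e h₁ h₂ ⁻¹' Set.range (pushout.inl s₁ s₂) = Set.range (pushout.inl r₁ r₂) := by
  ext z
  constructor
  · rintro ⟨p', hp'⟩
    rcases pushout_cover r₁ r₂ z with ⟨p, rfl⟩ | ⟨q, rfl⟩
    · exact ⟨p, rfl⟩
    · rw [map_inr r₁ r₂ s₁ s₂ a b e h₁ h₂] at hp'
      obtain ⟨w', -, hw⟩ := pushout_inter s₁ s₂ hp'
      obtain ⟨w, rfl⟩ := hb q ⟨w', hw⟩
      exact ⟨r₁ w, inl_eq_inr_of r₁ r₂ w⟩
  · rintro ⟨p, rfl⟩
    exact ⟨a p, (map_inl r₁ r₂ s₁ s₂ a b e h₁ h₂ p).symm⟩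

theorem preimage_range_inr (ha : ∀ p, a p ∈ Set.range s₁ → p ∈ Set.range r₁) :
    pushout.map r₁ r₂ s₁ s₂ a b e h₁ h₂ ⁻¹' Set.range (pushout.inr s₁ s₂) = Set.range (pushout.inr r₁ r₂) := by
  ext z
  constructor
  · rintro ⟨q', hq'⟩
    rcases pushout_cover r₁ r₂ z with ⟨p, rfl⟩ | ⟨q, rfl⟩
    · rw [map_inl r₁ r₂ s₁ s₂ a b e h₁ h₂] at hq'
      obtain ⟨w', hw, -⟩ := pushout_inter s₁ s₂ hq'.symm
      obtain ⟨w, rfl⟩ := ha p ⟨w', hw⟩
      exact ⟨r₂ w, (inl_eq_inr_of r₁ r₂ w).symm⟩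
    · exact ⟨q, rfl⟩
  · rintro ⟨q, rfl⟩
    exact ⟨b q, (map_inr r₁ r₂ s₁ s₂ a b e h₁ h₂ q).symm⟩

end pushout

/-- Affineness of a restriction from a map of open subschemes. -/
theorem isAffineHom_restrict {U V X Y : Scheme.{u}} (g : U ⟶ V) (iU : U ⟶ X) (iV : V ⟶ Y) (f : X ⟶ Y)
    [IsOpenImmersion iU] [IsOpenImmersion iV] [IsAffineHom g] (H : iU ≫ f = g ≫ iV)
    (H' : f ⁻¹' Set.range iV = Set.range iU) : IsAffineHom (f ∣_ iV.opensRange) := by
  have he : f ⁻¹ᵁ iV.opensRange = iU.opensRange := Opens.ext H'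
  have : f ∣_ iV.opensRange = (X.isoOfEq he).hom ≫ iU.isoOpensRange.inv ≫ g ≫ iV.isoOpensRange.hom := by
    rw [← cancel_mono iV.opensRange.ι, morphismRestrict_ι, Category.assoc, Category.assoc, Category.assoc,
      Scheme.Hom.isoOpensRange_hom_ι, ← H, Scheme.Hom.isoOpensRange_inv_comp_assoc, Scheme.isoOfEq_hom_ι_assoc]
  rw [this]
  infer_instance


section cones

variable {K : Type u} [SmallCategory K] [IsCofiltered K] {E S : K ⥤ Scheme.{u}} (ν : E ⟶ S)
  [∀ k, IsOpenImmersion (ν.app k)]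
  (hν : ∀ {k k' : K} (a : k ⟶ k'), S.map a ⁻¹' Set.range (ν.app k') = Set.range (ν.app k))
  (cS : Cone S) (L : Cone S) (hL : IsLimit L) (cE : Cone E) (hcE : IsLimit cE)
  (w : cE.pt ⟶ cS.pt) [IsOpenImmersion w] (hw : ∀ k, w ≫ cS.π.app k = cE.π.app k ≫ ν.app k)
  (hpre : ∀ k, cS.π.app k ⁻¹' Set.range (ν.app k) = Set.range w)

include hν hL hcE hw hpre in
/-- The comparison with the limit is an isomorphism over the part covered by a subsystem. -/
theorem exists_isIso_restrict (k₀ : K) :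
    IsIso (hL.lift cS ∣_ (L.π.app k₀ ⁻¹ᵁ (ν.app k₀).opensRange)) := by
  set h := hL.lift cS
  let O : L.pt.Opens := L.π.app k₀ ⁻¹ᵁ (ν.app k₀).opensRange
  have hh : ∀ k, h ≫ L.π.app k = cS.π.app k := fun k => hL.fac cS k
  have hO : ∀ k, L.π.app k ⁻¹' Set.range (ν.app k) = (O : Set L.pt) := fun k => by
    obtain ⟨l, p, q, -⟩ := IsCofilteredOrEmpty.cone_objs k k₀
    have e : ∀ {m : K} (r : l ⟶ m), L.π.app m ⁻¹' Set.range (ν.app m) = L.π.app l ⁻¹' Set.range (ν.app l) := by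
      intro m r
      rw [← L.w r, Scheme.Hom.comp_base, TopCat.coe_comp, Set.preimage_comp, hν r]
      rfl
    exact (e p).trans (e q).symm
  have hr : ∀ k, Set.range (O.ι ≫ L.π.app k) ⊆ Set.range (ν.app k) := fun k => by
    rintro _ ⟨x, rfl⟩
    have hx : O.ι x ∈ L.π.app k ⁻¹' Set.range (ν.app k) := by rw [hO k]; exact x.2
    exact hx
  let cO : Cone E :=
    { pt := O
      π :=
        { app := fun k => IsOpenImmersion.lift (ν.app k) (O.ι ≫ L.π.app k) (hr k)
          naturality := fun k k' a => by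
            rw [← cancel_mono (ν.app k')]
            simp only [Functor.const_obj_map, Category.id_comp, Category.assoc, ν.naturality,
              IsOpenImmersion.lift_fac, IsOpenImmersion.lift_fac_assoc, L.w]
            exact Category.id_comp _ } }
  haveI : IsConnected K := IsCofiltered.isConnected K
  let hcO : IsLimit cO := isLimitOfIsPullbackOfIsConnected ν cO L { hom := O.ι, w := fun k => by simp [cO] }
    (fun k => IsOpenImmersion.isPullback _ _ _ _ (by simp [cO]) (by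
      ext1
      show L.π.app k ⁻¹' Set.range (ν.app k) = Set.range O.ι
      rw [hO k, Scheme.Opens.range_ι])) hL
  let e : cE.pt ≅ O.toScheme := hcE.conePointUniqueUpToIso hcO
  have he : e.hom ≫ O.ι = w ≫ h := hL.hom_ext fun k => by
    have h1 : e.hom ≫ cO.π.app k = cE.π.app k := IsLimit.conePointUniqueUpToIso_hom_comp hcE hcO k
    rw [Category.assoc, Category.assoc, hh, hw, ← h1]
    show _ = (e.hom ≫ IsOpenImmersion.lift (ν.app k) (O.ι ≫ L.π.app k) (hr k)) ≫ ν.app k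
    rw [Category.assoc, IsOpenImmersion.lift_fac]
  have hp : h ⁻¹ᵁ O = w.opensRange := by
    ext1
    show h ⁻¹' (O : Set L.pt) = Set.range w
    rw [← hO k₀, ← Set.preimage_comp, ← hpre k₀]
    congr 1
    rw [← hh k₀]; rfl
  have : h ∣_ O = cS.pt.homOfLE hp.le ≫ w.isoOpensRange.inv ≫ e.hom := by
    rw [← cancel_mono O.ι, morphismRestrict_ι, Category.assoc, Category.assoc, he,
      Scheme.Hom.isoOpensRange_inv_comp_assoc, Scheme.homOfLE_ι_assoc]
  rw [this]
  haveI : IsIso (cS.pt.homOfLE hp.le) := by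
    rw [show cS.pt.homOfLE hp.le = (cS.pt.isoOfEq hp).hom from (Scheme.isoOfEq_hom _ _).symm]
    infer_instance
  infer_instance

end cones

section two

variable {K : Type u} [SmallCategory K] [IsCofiltered K] {E E' S : K ⥤ Scheme.{u}}
  [∀ {i j} (a : i ⟶ j), IsAffineHom (S.map a)] (ν : E ⟶ S) (ν' : E' ⟶ S)
  [∀ k, IsOpenImmersion (ν.app k)] [∀ k, IsOpenImmersion (ν'.app k)]

include ν ν' in
/-- A cone over a system covered by two open subsystems is a limit if it is so on both. -/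
theorem nonempty_isLimit_of_two (hν : ∀ {k k' : K} (a : k ⟶ k'), S.map a ⁻¹' Set.range (ν.app k') = Set.range (ν.app k))
    (hν' : ∀ {k k' : K} (a : k ⟶ k'), S.map a ⁻¹' Set.range (ν'.app k') = Set.range (ν'.app k))
    (hcov : ∀ k, Set.range (ν.app k) ∪ Set.range (ν'.app k) = Set.univ)
    (cS : Cone S) (cE : Cone E) (hcE : IsLimit cE) (cE' : Cone E') (hcE' : IsLimit cE')
    (w : cE.pt ⟶ cS.pt) [IsOpenImmersion w] (hw : ∀ k, w ≫ cS.π.app k = cE.π.app k ≫ ν.app k)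
    (hpre : ∀ k, cS.π.app k ⁻¹' Set.range (ν.app k) = Set.range w)
    (w' : cE'.pt ⟶ cS.pt) [IsOpenImmersion w'] (hw' : ∀ k, w' ≫ cS.π.app k = cE'.π.app k ≫ ν'.app k)
    (hpre' : ∀ k, cS.π.app k ⁻¹' Set.range (ν'.app k) = Set.range w') : Nonempty (IsLimit cS) := by
  obtain ⟨L, hL, -⟩ := AffLim.exists_isLimit S
  obtain ⟨k₀⟩ := IsCofiltered.nonempty (C := K)
  haveI : IsIso (hL.lift cS) := by
    refine (IsZariskiLocalAtTarget.iff_of_iSup_eq_top (P := MorphismProperty.isomorphisms Scheme)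
      (fun b : Bool => bif b then L.π.app k₀ ⁻¹ᵁ (ν.app k₀).opensRange
        else L.π.app k₀ ⁻¹ᵁ (ν'.app k₀).opensRange) ?_).2 fun b => ?_
    · refine eq_top_iff.2 fun x _ => ?_
      rcases (hcov k₀).ge (Set.mem_univ (L.π.app k₀ x)) with h | h
      · exact Opens.mem_iSup.2 ⟨true, h⟩
      · exact Opens.mem_iSup.2 ⟨false, h⟩
    · cases b
      · exact exists_isIso_restrict ν' hν' cS L hL cE' hcE' w' hw' hpre' k₀
      · exact exists_isIso_restrict ν hν cS L hL cE hcE w hw hpre k₀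
  exact ⟨hL.ofIsoLimit (Cone.ext (asIso (hL.lift cS)) (fun k => (hL.fac cS k).symm)).symm⟩

end two

end Groth.Agent.ApproxZLib
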