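import Mathlib

/-! An open subscheme mapped to `Spec B` by functions `g` inverting to the affine pieces. -/

set_option autoImplicit false
set_option backward.isDefEq.respectTransparency false

universe u

open CategoryTheory AlgebraicGeometry TopologicalSpace

noncomputable section

namespace Groth.Agent.ApproxZLib

variable {X : Scheme.{u}} (W : X.Opens) {B : Type u} [CommRing B] (φ : B →+* Γ(X, W))

/-- The map `W → Spec B`. -/
def toSpec : (W : Scheme.{u}) ⟶ Spec (CommRingCat.of B) :=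
  W.toSpecΓ ≫ Spec.map (CommRingCat.ofHom φ)

theorem toSpec_preimage (b : B) :
    toSpec W φ ⁻¹ᵁ PrimeSpectrum.basicOpen b = W.ι ⁻¹ᵁ X.basicOpen (φ b) := by
  rw [toSpec, Scheme.Hom.comp_preimage]
  show W.toSpecΓ ⁻¹ᵁ PrimeSpectrum.basicOpen (φ b) = _
  exact W.toSpecΓ_preimage_basicOpen _

variable {ι : Type*} (g : ι → B) (hcov : ⨆ k, X.basicOpen (φ (g k)) = W)
  (haff : ∀ k, IsAffineOpen (X.basicOpen (φ (g k))))
  (hsurj : ∀ k (x : Γ(X, X.basicOpen (φ (g k)))), ∃ (n : ℕ) (b : B),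
    X.presheaf.map (homOfLE (X.basicOpen_le (φ (g k)))).op (φ b) =
      x * X.presheaf.map (homOfLE (X.basicOpen_le (φ (g k)))).op (φ (g k)) ^ n)
  (hinj : ∀ k (b : B), X.presheaf.map (homOfLE (X.basicOpen_le (φ (g k)))).op (φ b) = 0 →
    ∃ n : ℕ, g k ^ n * b = 0)

include haff hsurj hinj in
theorem isOpenImmersion_restrict (k : ι) :
    IsOpenImmersion (X.homOfLE (X.basicOpen_le (φ (g k))) ≫ toSpec W φ) ∧
      Set.range (X.homOfLE (X.basicOpen_le (φ (g k))) ≫ toSpec W φ) =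
        (PrimeSpectrum.basicOpen (g k) : Set (PrimeSpectrum B)) := by
  let r : B →+* Γ(X, X.basicOpen (φ (g k))) :=
    (X.presheaf.map (homOfLE (X.basicOpen_le (φ (g k)))).op).hom.comp φ
  letI := r.toAlgebra
  haveI : IsLocalization.Away (g k) Γ(X, X.basicOpen (φ (g k))) := by
    refine IsLocalization.Away.mk _ ?_ ?_ ?_
    · show IsUnit (r (g k))
      exact RingedSpace.isUnit_res_basicOpen _ _
    · intro x
      obtain ⟨n, b, hb⟩ := hsurj k x
      exact ⟨n, b, hb.symm⟩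
    · intro a b hab
      obtain ⟨n, hn⟩ := hinj k (a - b) (by
        show r (a - b) = 0
        rw [map_sub]; exact sub_eq_zero.2 hab)
      exact ⟨n, sub_eq_zero.1 (by rw [← mul_sub]; exact hn)⟩
  have e : X.homOfLE (X.basicOpen_le (φ (g k))) ≫ toSpec W φ =
      (haff k).isoSpec.hom ≫ Spec.map (CommRingCat.ofHom r) := by
    rw [toSpec, (haff k).isoSpec_hom, show CommRingCat.ofHom r =
      CommRingCat.ofHom φ ≫ X.presheaf.map (homOfLE (X.basicOpen_le (φ (g k)))).op from rfl,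
      Spec.map_comp, Scheme.Opens.toSpecΓ_SpecMap_presheaf_map_assoc]
  haveI : IsOpenImmersion (Spec.map (CommRingCat.ofHom r)) :=
    IsOpenImmersion.of_isLocalization (g k)
  rw [e]
  refine ⟨inferInstance, ?_⟩
  rw [Scheme.Hom.comp_base, TopCat.coe_comp, Set.range_comp,
    (haff k).isoSpec.hom.surjective.range_eq, Set.image_univ]
  exact PrimeSpectrum.localization_away_comap_range Γ(X, X.basicOpen (φ (g k))) (g k)

include hcov haff hsurj hinj in
theorem isOpenImmersion_toSpec :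
    IsOpenImmersion (toSpec W φ) ∧
      Set.range (toSpec W φ) = ⋃ k, (PrimeSpectrum.basicOpen (g k) : Set (PrimeSpectrum B)) := by
  have hk : ∀ x : (W : Scheme.{u}), ∃ k, W.ι x ∈ X.basicOpen (φ (g k)) := fun x => by
    have hx : W.ι x ∈ ⨆ k, X.basicOpen (φ (g k)) := by rw [hcov]; exact x.2
    exact Opens.mem_iSup.1 hx
  have hlift : ∀ (k : ι) (x : (W : Scheme.{u})), W.ι x ∈ X.basicOpen (φ (g k)) →
      ∃ y, X.homOfLE (X.basicOpen_le (φ (g k))) y = x := fun k x hx => ⟨⟨W.ι x, hx⟩, W.ι.isOpenEmbedding.injective (by rw [← Scheme.Hom.comp_apply, Scheme.homOfLE_ι]; rfl)⟩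
  have hpre : ∀ (k : ι) (x : (W : Scheme.{u})), toSpec W φ x ∈ PrimeSpectrum.basicOpen (g k) ↔
      W.ι x ∈ X.basicOpen (φ (g k)) := fun k x => by
    show x ∈ toSpec W φ ⁻¹ᵁ PrimeSpectrum.basicOpen (g k) ↔ _
    rw [toSpec_preimage]
    rfl
  have hinjv : Function.Injective (toSpec W φ) := fun x y hxy => by
    obtain ⟨k, hxk⟩ := hk x
    have hyk : W.ι y ∈ X.basicOpen (φ (g k)) := (hpre k y).1 (hxy ▸ (hpre k x).2 hxk)
    obtain ⟨x', rfl⟩ := hlift k x hxk
    obtain ⟨y', rfl⟩ := hlift k y hyk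
    obtain ⟨h, -⟩ := isOpenImmersion_restrict W φ g haff hsurj hinj k
    congr 1
    exact h.base_open.injective hxy
  have hopen : IsOpenMap (toSpec W φ) := fun s hs => by
    rw [show (toSpec W φ) '' s = ⋃ k, (X.homOfLE (X.basicOpen_le (φ (g k))) ≫ toSpec W φ) ''
      ((X.homOfLE (X.basicOpen_le (φ (g k)))) ⁻¹' s) from Set.ext fun z => ?_]
    · refine isOpen_iUnion fun k => ?_
      obtain ⟨h, -⟩ := isOpenImmersion_restrict W φ g haff hsurj hinj k
      exact h.base_open.isOpenMap _ (hs.preimage (X.homOfLE _).continuous)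
    · constructor
      · rintro ⟨x, hx, rfl⟩
        obtain ⟨k, hxk⟩ := hk x
        obtain ⟨x', rfl⟩ := hlift k x hxk
        exact Set.mem_iUnion.2 ⟨k, x', hx, rfl⟩
      · intro hz
        obtain ⟨k, x', hx', rfl⟩ := Set.mem_iUnion.1 hz
        exact ⟨_, hx', rfl⟩
  haveI : ∀ x, IsIso ((toSpec W φ).stalkMap x) := fun x => by
    obtain ⟨k, hxk⟩ := hk x
    obtain ⟨x', rfl⟩ := hlift k x hxk
    obtain ⟨h, -⟩ := isOpenImmersion_restrict W φ g haff hsurj hinj k
    haveI := h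
    haveI : IsIso ((toSpec W φ).stalkMap (X.homOfLE (X.basicOpen_le (φ (g k))) x') ≫
        (X.homOfLE (X.basicOpen_le (φ (g k)))).stalkMap x') := by
      rw [← Scheme.Hom.stalkMap_comp]; infer_instance
    exact IsIso.of_isIso_comp_right _ ((X.homOfLE (X.basicOpen_le (φ (g k)))).stalkMap x')
  refine ⟨IsOpenImmersion.of_isIso_stalkMap _ (Topology.IsOpenEmbedding.of_continuous_injective_isOpenMap
    (toSpec W φ).continuous hinjv hopen), ?_⟩
  ext z
  constructor
  · rintro ⟨x, rfl⟩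
    obtain ⟨k, hxk⟩ := hk x
    exact Set.mem_iUnion.2 ⟨k, (hpre k x).2 hxk⟩
  · intro hz
    obtain ⟨k, hzk⟩ := Set.mem_iUnion.1 hz
    obtain ⟨-, hr⟩ := isOpenImmersion_restrict W φ g haff hsurj hinj k
    rw [← hr] at hzk
    obtain ⟨x', rfl⟩ := hzk
    exact ⟨_, rfl⟩

end Groth.Agent.ApproxZLib
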