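import Mathlib

/-! An affine open glued to a limit: the finite data needed at a stage. -/

set_option autoImplicit false
set_option backward.isDefEq.respectTransparency false
set_option backward.defeqAttrib.useBackward true
set_option linter.unusedSectionVars false
set_option linter.style.haveILetI false

universe u

open CategoryTheory CategoryTheory.Limits AlgebraicGeometry TopologicalSpace Opposite

noncomputable section

namespace Groth.Agent.ApproxZLib

variable {T : Scheme.{u}} {K : Type u} [SmallCategory K] [IsCofiltered K]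
  {D : K ⥤ Scheme.{u}} [∀ {i j} (a : i ⟶ j), IsAffineHom (D.map a)]
  [∀ i, CompactSpace (D.obj i)] [∀ i, QuasiSeparatedSpace (D.obj i)]
  {c : Cone D} (hc : IsLimit c)

include hc in
/-- Sections over the preimage of a quasi-compact open come from a stage. -/
theorem exists_appLE_π_eq {i : K} {W : (D.obj i).Opens} (hW : IsCompact (W : Set (D.obj i)))
    (s : Γ(c.pt, c.π.app i ⁻¹ᵁ W)) :
    ∃ (j : K) (φ : j ⟶ i) (e : c.π.app i ⁻¹ᵁ W ≤ c.π.app j ⁻¹ᵁ (D.map φ ⁻¹ᵁ W))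
      (t : Γ(D.obj j, D.map φ ⁻¹ᵁ W)),
      (c.π.app j).appLE (D.map φ ⁻¹ᵁ W) (c.π.app i ⁻¹ᵁ W) e t = s := by
  have (j : Over i) : CompactSpace ((opensDiagram D i W).obj j) :=
    isCompact_iff_compactSpace.mp (QuasiCompact.isCompact_preimage _ W.2 hW)
  have (j : Over i) : QuasiSeparatedSpace ((opensDiagram D i W).obj j) :=
    (isQuasiSeparated_iff_quasiSeparatedSpace _ (D.map _ ⁻¹ᵁ _).2).mp (.of_quasiSeparatedSpace _)
  obtain ⟨j, t, ht⟩ := exists_appTop_π_eq_of_isLimit (opensDiagram D i W)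
    (opensCone D c i W) (isLimitOpensCone D c hc i W) ((c.π.app i ⁻¹ᵁ W).topIso.inv s)
  have e : c.π.app i ⁻¹ᵁ W ≤ c.π.app j.left ⁻¹ᵁ (D.map j.hom ⁻¹ᵁ W) :=
    (congr($(c.w j.hom) ⁻¹ᵁ W)).ge
  refine ⟨j.left, j.hom, e, (D.map j.hom ⁻¹ᵁ W).topIso.hom t, ?_⟩
  have key : (D.map j.hom ⁻¹ᵁ W).topIso.hom ≫
      (c.π.app j.left).appLE (D.map j.hom ⁻¹ᵁ W) (c.π.app i ⁻¹ᵁ W) e =
      ((opensCone D c i W).π.app j).appTop ≫ (c.π.app i ⁻¹ᵁ W).topIso.hom := by
    simp [Scheme.Hom.app_eq_appLE, Scheme.Hom.resLE_appLE]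
  refine (congr($key t)).trans ?_
  change (c.π.app i ⁻¹ᵁ W).topIso.hom (((opensCone D c i W).π.app j).appTop t) = s
  rw [← ht]
  exact Iso.inv_hom_id_apply _ s

/-- A quasi-compact open inside an affine open is a finite union of basic opens. -/
theorem exists_basicOpen_cover {U : T.Opens} (hU : IsAffineOpen U) (O : T.Opens) (hO : O ≤ U)
    (hc : IsCompact (O : Set T)) :
    ∃ s : Finset Γ(T, U), (∀ f ∈ s, T.basicOpen f ≤ O) ∧ O = ⨆ f : s, T.basicOpen (f : Γ(T, U)) := by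
  classical
  choose f hf hxf using fun x : (O : Set T) => hU.exists_basicOpen_le (V := O) ⟨x.1, x.2⟩ (hO x.2)
  obtain ⟨t, ht⟩ := hc.elim_finite_subcover (fun x => (T.basicOpen (f x) : Set T))
    (fun x => (T.basicOpen (f x)).2) fun x hx => Set.mem_iUnion.2 ⟨⟨x, hx⟩, hxf _⟩
  refine ⟨t.image f, fun g hg => ?_, le_antisymm (fun x hx => ?_) (iSup_le fun g => ?_)⟩
  · obtain ⟨x, -, rfl⟩ := Finset.mem_image.1 hg
    exact hf x
  · obtain ⟨y, hy, hxy⟩ := Set.mem_iUnion₂.1 (ht hx)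
    exact Opens.mem_iSup.2 ⟨⟨f y, Finset.mem_image_of_mem f hy⟩, hxy⟩
  · obtain ⟨x, -, e⟩ := Finset.mem_image.1 g.2
    exact e ▸ hf x

variable (v : c.pt ⟶ T) [IsOpenImmersion v] (U : T.Opens)

/-- The finite data: equations of the overlap and their lifts to a stage. -/
structure Setup where
  i₁ : K
  W₁ : (D.obj i₁).Opens
  isCompact_W₁ : IsCompact (W₁ : Set (D.obj i₁))
  preimage_W₁ : c.π.app i₁ ⁻¹ᵁ W₁ = v ⁻¹ᵁ U
  ι : Type u
  finite : Finite ι
  f : ι → Γ(T, U)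
  g : ι → Γ(D.obj i₁, W₁)
  le_range : ∀ k, T.basicOpen (f k) ≤ v.opensRange
  map_g : ∀ k, (c.π.app i₁).appLE W₁ (v ⁻¹ᵁ U) preimage_W₁.ge (g k) = v.app U (f k)
  cover : ⨆ k, (D.obj i₁).basicOpen (g k) = W₁
  aff : ∀ k, IsAffineOpen ((D.obj i₁).basicOpen (g k))

include hc in
theorem exists_setup [CompactSpace c.pt] [QuasiSeparatedSpace T] (hU : IsAffineOpen U) :
    Nonempty (Setup v U) := by
  classical
  have hWc : IsCompact ((v ⁻¹ᵁ U : c.pt.Opens) : Set c.pt) := by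
    rw [v.isOpenEmbedding.isEmbedding.isCompact_iff]
    rw [show v '' (v ⁻¹ᵁ U : Set c.pt) = Set.range v ∩ U from Set.image_preimage_eq_range_inter]
    exact QuasiSeparatedSpace.inter_isCompact _ _ v.isOpenEmbedding.isOpen_range
      (isCompact_range v.continuous) U.2 hU.isCompact
  obtain ⟨s, hs, hsU⟩ := exists_basicOpen_cover hU (v.opensRange ⊓ U) inf_le_right (by
    exact QuasiSeparatedSpace.inter_isCompact _ _ v.isOpenEmbedding.isOpen_range
      (isCompact_range v.continuous) U.2 hU.isCompact)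
  have hcov : ⨆ k : s, c.pt.basicOpen (v.app U k) = v ⁻¹ᵁ U := by
    simp_rw [← Scheme.preimage_basicOpen, ← Scheme.Hom.preimage_iSup, ← hsU, Scheme.Hom.preimage_inf,
      Scheme.Hom.preimage_opensRange, top_inf_eq]
  obtain ⟨i₀, W₀, hW₀, e₀⟩ := exists_preimage_eq D c hc (v ⁻¹ᵁ U) hWc
  choose j φ e t ht using fun k : s =>
    exists_appLE_π_eq hc hW₀ (c.pt.presheaf.map (homOfLE e₀.le).op (v.app U k))
  obtain ⟨i, b, ψ, hψ⟩ := IsCofiltered.wideCospan φ
  let W : (D.obj i).Opens := D.map b ⁻¹ᵁ W₀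
  have hW : c.π.app i ⁻¹ᵁ W = v ⁻¹ᵁ U := by rw [← e₀, ← Scheme.Hom.comp_preimage, c.w]
  have hWle : ∀ k, W ≤ D.map (ψ k) ⁻¹ᵁ (D.map (φ k) ⁻¹ᵁ W₀) := fun k => by
    rw [← Scheme.Hom.comp_preimage, ← D.map_comp, hψ]
  let g : s → Γ(D.obj i, W) := fun k => (D.map (ψ k)).appLE _ W (hWle k) (t k)
  have hg : ∀ k : s, (c.π.app i).appLE W (v ⁻¹ᵁ U) hW.ge (g k) = v.app U k := fun k => by
    have h2 : ∀ (h : v ⁻¹ᵁ U ≤ c.π.app i₀ ⁻¹ᵁ W₀) (h' : v ⁻¹ᵁ U ≤ c.π.app (j k) ⁻¹ᵁ (D.map (φ k) ⁻¹ᵁ W₀)),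
        (c.π.app (j k)).appLE _ (v ⁻¹ᵁ U) h' (t k) = v.app U k := fun h h' => by
      rw [← Scheme.Hom.appLE_map (c.π.app (j k)) (e k) (homOfLE h).op, ConcreteCategory.comp_apply, ht k]
      show (v.app U ≫ c.pt.presheaf.map (homOfLE e₀.le).op ≫ c.pt.presheaf.map (homOfLE h).op) (k : Γ(T, U)) = _
      rw [← Functor.map_comp, ← op_comp,
        Subsingleton.elim (homOfLE h ≫ homOfLE e₀.le) (𝟙 _), op_id, CategoryTheory.Functor.map_id]
      rfl
    simp only [g, ← ConcreteCategory.comp_apply, Scheme.Hom.appLE_comp_appLE, c.w]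
    exact h2 e₀.ge _
  have hWc' : IsCompact (W : Set (D.obj i)) := QuasiCompact.isCompact_preimage (f := D.map b) _ W₀.2 hW₀
  have hgb : ∀ k : s, c.π.app i ⁻¹ᵁ (D.obj i).basicOpen (g k) = c.pt.basicOpen (v.app U k) := fun k => by
    rw [← hg k]
    exact ((Scheme.basicOpen_appLE (c.π.app i) (v ⁻¹ᵁ U) W hW.ge (g k)).trans
      (inf_eq_right.2 (((c.π.app i).preimage_mono ((D.obj i).basicOpen_le (g k))).trans hW.le))).symm
  have hcpt : ∀ k : s, IsCompact ((D.obj i).basicOpen (g k) : Set (D.obj i)) := fun k =>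
    isCompact_basicOpen _ hWc' (g k)
  obtain ⟨i₂, a₂, ha₂⟩ := exists_map_preimage_eq_map_preimage D c hc
    (U := ⨆ k, (D.obj i).basicOpen (g k)) (by
      rw [Opens.coe_iSup]; exact isCompact_iUnion hcpt) hWc' (by
      rw [hW, Scheme.Hom.preimage_iSup, ← hcov]
      exact iSup_congr hgb)
  have hbaff : ∀ k : s, ∃ (l : K) (a : l ⟶ i), IsAffineOpen (D.map a ⁻¹ᵁ (D.obj i).basicOpen (g k)) := fun k => by
    have hk : IsAffineOpen (c.π.app i ⁻¹ᵁ (D.obj i).basicOpen (g k)) := by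
      rw [hgb k, ← Scheme.preimage_basicOpen]
      exact (hU.basicOpen (k : Γ(T, U))).preimage_of_isOpenImmersion v ((hs _ k.2).trans inf_le_left)
    obtain ⟨l, O, hO, hOe⟩ := exists_isAffineOpen_preimage_eq D c hc _ hk
    obtain ⟨m, p, q, -⟩ := IsCofilteredOrEmpty.cone_objs l i
    obtain ⟨n, r, hr⟩ := exists_map_preimage_eq_map_preimage D c hc
      (U := D.map p ⁻¹ᵁ O) (V := D.map q ⁻¹ᵁ (D.obj i).basicOpen (g k))
      (QuasiCompact.isCompact_preimage _ O.2 hO.isCompact) (QuasiCompact.isCompact_preimage _ ((D.obj i).basicOpen (g k)).2 (hcpt k))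
      (by simp only [← Scheme.Hom.comp_preimage, c.w]; exact hOe)
    exact ⟨n, r ≫ q, by
      rw [D.map_comp, Scheme.Hom.comp_preimage, ← hr]
      exact (hO.preimage _).preimage _⟩
  choose l al hl using hbaff
  obtain ⟨n, p, hp⟩ := IsCofiltered.inf_exists (insert i₂ ((Finset.univ : Finset s).image l) ∪ {i})
    (insert ⟨i₂, i, by simp, by simp, a₂⟩ ((Finset.univ : Finset s).image fun k => ⟨l k, i, by simp, by simp, al k⟩))
  have hi₂ : p (X := i₂) (by simp) ≫ a₂ = p (X := i) (by simp) := hp (by simp) (by simp) (Finset.mem_insert_self _ _)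
  let a : n ⟶ i := p (X := i) (by simp)
  have hle : D.map a ⁻¹ᵁ W ≤ D.map a ⁻¹ᵁ W := le_rfl
  refine ⟨⟨n, D.map a ⁻¹ᵁ W, QuasiCompact.isCompact_preimage _ W.2 hWc', ?_, s, inferInstance,
    fun k => k, fun k => (D.map a).app W (g k), fun k => (hs _ k.2).trans inf_le_left, fun k => ?_, ?_, fun k => ?_⟩⟩
  · rw [← Scheme.Hom.comp_preimage, c.w, hW]
  · simp only [Scheme.Hom.app_eq_appLE, ← ConcreteCategory.comp_apply, Scheme.Hom.appLE_comp_appLE, c.w]
    exact (hg k).trans (congrArg (fun m => m (k : Γ(T, U))) (Scheme.Hom.app_eq_appLE v))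
  · simp_rw [← Scheme.preimage_basicOpen, ← Scheme.Hom.preimage_iSup]
    rw [show a = p (X := i₂) (by simp) ≫ a₂ from hi₂.symm, D.map_comp, Scheme.Hom.comp_preimage, Scheme.Hom.comp_preimage, ha₂]
  · rw [← Scheme.preimage_basicOpen]
    have hk : p (X := l k) (by simp) ≫ al k = a := hp (by simp) (by simp)
      (Finset.mem_insert_of_mem (Finset.mem_image_of_mem _ (Finset.mem_univ k)))
    rw [← hk, D.map_comp, Scheme.Hom.comp_preimage]
    exact (hl k).preimage _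

end Groth.Agent.ApproxZLib
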