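import Groth.Agent.ApproxZLib.OpenImm
import Groth.Agent.ApproxZLib.Setup

/-! Finitely generated subrings of the fibre product of sections: the affine pieces of the stages. -/

set_option autoImplicit false
set_option backward.isDefEq.respectTransparency false
set_option backward.defeqAttrib.useBackward true
set_option linter.unusedSectionVars false
set_option linter.style.haveILetI false

universe u

open CategoryTheory CategoryTheory.Limits AlgebraicGeometry TopologicalSpace Opposite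

noncomputable section

namespace Groth.Agent.ApproxZLib

variable {T : Scheme.{u}} {K : Type u} [SmallCategory K] [IsCofiltered K]
  {D : K ⥤ Scheme.{u}} [∀ {i j} (a : i ⟶ j), IsAffineHom (D.map a)]
  [∀ i, CompactSpace (D.obj i)] [∀ i, QuasiSeparatedSpace (D.obj i)]
  {c : Cone D} {v : c.pt ⟶ T} [IsOpenImmersion v] {U : T.Opens}

namespace Setup

variable (d : Setup v U) {i : K} (a : i ⟶ d.i₁)

/-- The overlap at a stage. -/
abbrev Wa : (D.obj i).Opens := D.map a ⁻¹ᵁ d.W₁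

/-- The equations at a stage. -/
def ga (k : d.ι) : Γ(D.obj i, d.Wa a) := (D.map a).app d.W₁ (d.g k)

theorem le_preimage : v ⁻¹ᵁ U ≤ c.π.app i ⁻¹ᵁ d.Wa a := by
  rw [← Scheme.Hom.comp_preimage, c.w, d.preimage_W₁]

theorem preimage_Wa : c.π.app i ⁻¹ᵁ d.Wa a = v ⁻¹ᵁ U := by
  rw [← Scheme.Hom.comp_preimage, c.w, d.preimage_W₁]

theorem π_ga (k : d.ι) :
    (c.π.app i).appLE (d.Wa a) (v ⁻¹ᵁ U) (d.le_preimage a) (d.ga a k) = v.app U (d.f k) := by
  simp only [ga, Scheme.Hom.app_eq_appLE, ← ConcreteCategory.comp_apply, Scheme.Hom.appLE_comp_appLE, c.w]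
  exact (d.map_g k).trans (congrArg (fun m => m (d.f k)) (Scheme.Hom.app_eq_appLE v))

theorem isCompact_Wa : IsCompact (d.Wa a : Set (D.obj i)) :=
  QuasiCompact.isCompact_preimage (f := D.map a) _ d.W₁.2 d.isCompact_W₁

theorem cover_Wa : ⨆ k, (D.obj i).basicOpen (d.ga a k) = d.Wa a := by
  simp_rw [ga, ← Scheme.preimage_basicOpen, ← Scheme.Hom.preimage_iSup, d.cover]

theorem aff_Wa (k : d.ι) : IsAffineOpen ((D.obj i).basicOpen (d.ga a k)) := by
  rw [ga, ← Scheme.preimage_basicOpen]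
  exact (d.aff k).preimage _

/-- The pairs agreeing on the overlap. -/
def Pair : Subalgebra ℤ (Γ(T, U) × Γ(D.obj i, d.Wa a)) :=
  AlgHom.equalizer
    (((v.app U).hom.comp (RingHom.fst Γ(T, U) Γ(D.obj i, d.Wa a))).toIntAlgHom)
    ((((c.π.app i).appLE (d.Wa a) (v ⁻¹ᵁ U) (d.le_preimage a)).hom.comp
      (RingHom.snd Γ(T, U) Γ(D.obj i, d.Wa a))).toIntAlgHom)

theorem mem_Pair {p : Γ(T, U) × Γ(D.obj i, d.Wa a)} :
    p ∈ d.Pair a ↔ v.app U p.1 = (c.π.app i).appLE (d.Wa a) (v ⁻¹ᵁ U) (d.le_preimage a) p.2 := Iff.rfl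

theorem isIso_app_basicOpen (k : d.ι) : IsIso (v.app (T.basicOpen (d.f k))) :=
  Scheme.Hom.isIso_app v _ (d.le_range k)

/-- A function on the overlap at a stage becomes compatible after multiplying by a power of an equation. -/
theorem exists_pow_mem (hU : IsAffineOpen U) [QuasiSeparatedSpace c.pt]
    (hWc : IsCompact ((v ⁻¹ᵁ U : c.pt.Opens) : Set c.pt)) (k : d.ι) (b : Γ(D.obj i, d.Wa a)) :
    ∃ (L : ℕ) (x : Γ(T, U)), (x, d.ga a k ^ L * b) ∈ d.Pair a := by
  set s : Γ(c.pt, v ⁻¹ᵁ U) := (c.π.app i).appLE (d.Wa a) (v ⁻¹ᵁ U) (d.le_preimage a) b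
  have hle : c.pt.basicOpen (v.app U (d.f k)) ≤ v ⁻¹ᵁ T.basicOpen (d.f k) :=
    (Scheme.preimage_basicOpen v (d.f k)).ge
  haveI := d.isIso_app_basicOpen k
  obtain ⟨y, hy⟩ := (ConcreteCategory.bijective_of_isIso (v.app (T.basicOpen (d.f k)))).2
    (c.pt.presheaf.map (homOfLE (show v ⁻¹ᵁ T.basicOpen (d.f k) ≤ v ⁻¹ᵁ U from
      v.preimage_mono (T.basicOpen_le _))).op s)
  haveI := hU.isLocalization_basicOpen (d.f k)
  obtain ⟨M, x, hx⟩ := IsLocalization.Away.surj (d.f k) y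
  obtain ⟨n, hn⟩ := exists_of_res_eq_of_qcqs (X := c.pt) hWc (.of_quasiSeparatedSpace _)
    (f := v.app U x) (g := s * v.app U (d.f k) ^ M) (s := v.app U (d.f k)) (by
      have h1 := congrArg (v.app (T.basicOpen (d.f k))) hx
      rw [map_mul, map_pow, hy, RingHom.algebraMap_toAlgebra] at h1
      simp only [← ConcreteCategory.comp_apply, v.naturality] at h1
      have h2 := congrArg (c.pt.presheaf.map (homOfLE hle).op) h1
      dsimp [TopCat.Presheaf.restrictOpen, TopCat.Presheaf.restrict]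
      simp only [ConcreteCategory.comp_apply, map_mul, map_pow] at h2 ⊢
      simp only [← ConcreteCategory.comp_apply, Category.assoc, ← Functor.map_comp] at h2 ⊢
      exact h2.symm)
  refine ⟨n + M, d.f k ^ n * x, ?_⟩
  rw [mem_Pair, map_mul, map_pow, map_mul, map_pow, d.π_ga, hn]
  show v.app U (d.f k) ^ n * (s * v.app U (d.f k) ^ M) = v.app U (d.f k) ^ (n + M) * s
  rw [pow_add]; ring

/-- Compatible pairs vanishing on a piece are killed by a power of the equation. -/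
theorem exists_pow_mul_eq_zero (hU : IsAffineOpen U) [QuasiSeparatedSpace c.pt]
    (k : d.ι) (p : Γ(T, U) × Γ(D.obj i, d.Wa a)) (hp : p ∈ d.Pair a)
    (h : (D.obj i).presheaf.map (homOfLE ((D.obj i).basicOpen_le (d.ga a k))).op p.2 = 0) :
    ∃ n : ℕ, (d.f k, d.ga a k) ^ n * p = 0 := by
  obtain ⟨n, hn⟩ := exists_of_res_zero_of_qcqs (d.isCompact_Wa a) (.of_quasiSeparatedSpace _)
    (f := p.2) (s := d.ga a k) h
  have h1 : v.app U (d.f k ^ n * p.1) = 0 := by
    rw [map_mul, map_pow, (d.mem_Pair a).1 hp, ← d.π_ga a k]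
    exact ((map_mul _ _ _).trans (congrArg₂ (· * ·) (map_pow _ _ _) rfl)).symm.trans
      ((congrArg _ hn).trans (map_zero ((c.π.app i).appLE (d.Wa a) (v ⁻¹ᵁ U) (d.le_preimage a)).hom))
  have h2 : T.presheaf.map (homOfLE (T.basicOpen_le (d.f k))).op (d.f k ^ n * p.1) = 0 := by
    haveI := d.isIso_app_basicOpen k
    apply (ConcreteCategory.bijective_of_isIso (v.app (T.basicOpen (d.f k)))).1
    rw [map_zero, ← ConcreteCategory.comp_apply, v.naturality, ConcreteCategory.comp_apply, h1, map_zero]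
  haveI := hU.isLocalization_basicOpen (d.f k)
  obtain ⟨⟨_, m, rfl⟩, hm⟩ := (IsLocalization.map_eq_zero_iff (Submonoid.powers (d.f k)) Γ(T, T.basicOpen (d.f k)) _).1
    (show algebraMap Γ(T, U) Γ(T, T.basicOpen (d.f k)) (d.f k ^ n * p.1) = 0 from h2)
  refine ⟨m + n, Prod.ext ?_ ?_⟩
  · show d.f k ^ (m + n) * p.1 = 0
    rw [pow_add, mul_assoc]; exact hm
  · show d.ga a k ^ (m + n) * p.2 = 0
    rw [pow_add, mul_assoc, hn, mul_zero]

/-- Admissible subrings. -/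
structure IsAdm (B : Subalgebra ℤ (Γ(T, U) × Γ(D.obj i, d.Wa a))) : Prop where
  fg : B.FG
  le_pair : B ≤ d.Pair a
  mem_g : ∀ k, (d.f k, d.ga a k) ∈ B
  surj : ∀ (k : d.ι) (x : Γ(D.obj i, (D.obj i).basicOpen (d.ga a k))), ∃ (n : ℕ), ∃ p ∈ B,
    (D.obj i).presheaf.map (homOfLE ((D.obj i).basicOpen_le (d.ga a k))).op p.2 =
      x * (D.obj i).presheaf.map (homOfLE ((D.obj i).basicOpen_le (d.ga a k))).op (d.ga a k) ^ n

variable {d a}

theorem IsAdm.mono {B B' : Subalgebra ℤ (Γ(T, U) × Γ(D.obj i, d.Wa a))} (h : d.IsAdm a B) (hle : B ≤ B')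
    (hfg : B'.FG) (hP : B' ≤ d.Pair a) : d.IsAdm a B' :=
  ⟨hfg, hP, fun k => hle (h.mem_g k), fun k x => by
    obtain ⟨n, p, hp, e⟩ := h.surj k x
    exact ⟨n, p, hle hp, e⟩⟩

variable (d a)

theorem exists_isAdm (hU : IsAffineOpen U) [QuasiSeparatedSpace c.pt]
    (hWc : IsCompact ((v ⁻¹ᵁ U : c.pt.Opens) : Set c.pt))
    (hft : ∀ k, ((D.obj i).presheaf.map (homOfLE ((D.obj i).basicOpen_le (d.ga a k))).op).hom.comp
      (algebraMap ℤ Γ(D.obj i, d.Wa a)) |>.FiniteType) :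
    ∃ B, d.IsAdm a B := by
  classical
  haveI := d.finite
  have hx : ∀ (k : d.ι) (x : Γ(D.obj i, (D.obj i).basicOpen (d.ga a k))), ∃ (n : ℕ) (p : Γ(T, U) × Γ(D.obj i, d.Wa a)),
      p ∈ d.Pair a ∧ (D.obj i).presheaf.map (homOfLE ((D.obj i).basicOpen_le (d.ga a k))).op p.2 =
        x * (D.obj i).presheaf.map (homOfLE ((D.obj i).basicOpen_le (d.ga a k))).op (d.ga a k) ^ n := fun k x => by
    haveI := isLocalization_basicOpen_of_qcqs (d.isCompact_Wa a) (.of_quasiSeparatedSpace _) (d.ga a k)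
    obtain ⟨m, b, hb⟩ := IsLocalization.Away.surj (d.ga a k) x
    obtain ⟨L, y, hy⟩ := d.exists_pow_mem a hU hWc k b
    refine ⟨m + L, _, hy, ?_⟩
    rw [RingHom.algebraMap_toAlgebra] at hb
    rw [map_mul, map_pow, pow_add, ← mul_assoc, mul_comm (_ ^ L)]
    congr 1
    exact hb.symm
  have hgen : ∀ k, ∃ s : Finset Γ(D.obj i, (D.obj i).basicOpen (d.ga a k)), Algebra.adjoin ℤ (s : Set Γ(D.obj i, (D.obj i).basicOpen (d.ga a k))) = ⊤ :=
    fun k => by
      have h := hft k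
      rw [Subsingleton.elim (((D.obj i).presheaf.map (homOfLE ((D.obj i).basicOpen_le (d.ga a k))).op).hom.comp
        (algebraMap ℤ Γ(D.obj i, d.Wa a))) (algebraMap ℤ Γ(D.obj i, (D.obj i).basicOpen (d.ga a k)))] at h
      exact (RingHom.finiteType_algebraMap.1 h).out
  choose s hs using hgen
  choose n p hp hpe using hx
  let G : Set (Γ(T, U) × Γ(D.obj i, d.Wa a)) :=
    Set.range (fun k => (d.f k, d.ga a k)) ∪ ⋃ k, p k '' (s k : Set _)
  have hGfin : G.Finite := (Set.finite_range _).union (Set.finite_iUnion fun k => (s k).finite_toSet.image _)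
  have hG : ∀ k, (d.f k, d.ga a k) ∈ Algebra.adjoin ℤ G := fun k => Algebra.subset_adjoin (Or.inl ⟨k, rfl⟩)
  refine ⟨Algebra.adjoin ℤ G, Subalgebra.fg_def.2 ⟨G, hGfin, rfl⟩, Algebra.adjoin_le ?_, hG, fun k x => ?_⟩
  · rintro q (⟨k, rfl⟩ | hq)
    · exact (d.mem_Pair a).2 (d.π_ga a k).symm
    · obtain ⟨k, x, -, rfl⟩ := Set.mem_iUnion.1 hq
      exact hp k x
  · have hx : x ∈ Algebra.adjoin ℤ (s k : Set Γ(D.obj i, (D.obj i).basicOpen (d.ga a k))) := by
      rw [hs k]; trivial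
    induction hx using Algebra.adjoin_induction with
    | mem x hx => exact ⟨n k x, p k x, Algebra.subset_adjoin (Or.inr (Set.mem_iUnion.2 ⟨k, x, hx, rfl⟩)), hpe k x⟩
    | algebraMap r => exact ⟨0, algebraMap ℤ _ r, Subalgebra.algebraMap_mem _ r, by simp⟩
    | add x y _ _ hx hy =>
      obtain ⟨m, q, hq, e⟩ := hx
      obtain ⟨m', q', hq', e'⟩ := hy
      refine ⟨m + m', q * (d.f k, d.ga a k) ^ m' + q' * (d.f k, d.ga a k) ^ m,
        add_mem (mul_mem hq (pow_mem (hG k) _)) (mul_mem hq' (pow_mem (hG k) _)), ?_⟩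
      simp only [Prod.snd_add, Prod.snd_mul, Prod.pow_snd, map_add, map_mul, map_pow, e, e']
      ring
    | mul x y _ _ hx hy =>
      obtain ⟨m, q, hq, e⟩ := hx
      obtain ⟨m', q', hq', e'⟩ := hy
      refine ⟨m + m', q * q', mul_mem hq hq', ?_⟩
      rw [Prod.snd_mul, map_mul, e, e']
      ring

/-- The map from the overlap to the affine piece. -/
def toB (B : Subalgebra ℤ (Γ(T, U) × Γ(D.obj i, d.Wa a))) :
    (d.Wa a).toScheme ⟶ Spec (CommRingCat.of B) :=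
  toSpec (d.Wa a) ((RingHom.snd Γ(T, U) Γ(D.obj i, d.Wa a)).comp B.val.toRingHom)

theorem isOpenImmersion_toB (hU : IsAffineOpen U) [QuasiSeparatedSpace c.pt]
    {B : Subalgebra ℤ (Γ(T, U) × Γ(D.obj i, d.Wa a))} (hB : d.IsAdm a B) :
    IsOpenImmersion (d.toB a B) ∧ Set.range (d.toB a B) =
      ⋃ k, (PrimeSpectrum.basicOpen (⟨(d.f k, d.ga a k), hB.mem_g k⟩ : B) : Set (PrimeSpectrum B)) := by
  refine isOpenImmersion_toSpec (d.Wa a) _ (fun k => (⟨(d.f k, d.ga a k), hB.mem_g k⟩ : B))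
    (d.cover_Wa a) (d.aff_Wa a) (fun k x => ?_) (fun k b hb => ?_)
  · obtain ⟨n, p, hp, e⟩ := hB.surj k x
    exact ⟨n, ⟨p, hp⟩, e⟩
  · obtain ⟨n, hn⟩ := d.exists_pow_mul_eq_zero a hU k b.1 (hB.le_pair b.2) hb
    exact ⟨n, Subtype.ext hn⟩

end Setup

end Groth.Agent.ApproxZLib
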