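import Groth.Agent.ApproxZLib.System
import Groth.Agent.ApproxZLib.Ext

/-! Extending a limit presentation over one affine open. -/

set_option autoImplicit false
set_option backward.isDefEq.respectTransparency false
set_option backward.defeqAttrib.useBackward true
set_option linter.unusedSectionVars false
set_option linter.style.haveILetI false

universe u

open CategoryTheory CategoryTheory.Limits AlgebraicGeometry TopologicalSpace Opposite

noncomputable section

namespace Groth.Agent.ApproxZLib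

theorem map_appLE_apply {X Y : Scheme.{u}} (f : X ⟶ Y) {W : Y.Opens} {V V' : X.Opens} (e : V ≤ f ⁻¹ᵁ W) (h : V' ≤ V)
    (s : Γ(Y, W)) : X.presheaf.map (homOfLE h).op (f.appLE W V e s) = f.appLE W V' (h.trans e) s := by
  rw [← ConcreteCategory.comp_apply, Scheme.Hom.appLE_map]

theorem map_map_apply {X : Scheme.{u}} {V V' : X.Opens} (h : V ≤ V') (h' : V' ≤ V) (s : Γ(X, V)) :
    X.presheaf.map (homOfLE h).op (X.presheaf.map (homOfLE h').op s) = s := by
  rw [← ConcreteCategory.comp_apply, ← Functor.map_comp, ← op_comp, Subsingleton.elim (homOfLE h ≫ homOfLE h') (𝟙 _),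
    op_id, CategoryTheory.Functor.map_id]
  rfl

variable {T : Scheme.{u}} {I : Type u} [Preorder I] [IsDirected I (· ≤ ·)] [Nonempty I]
  {D : Iᵒᵖ ⥤ Scheme.{u}} [∀ {i j} (a : i ⟶ j), IsAffineHom (D.map a)]
  [∀ i, CompactSpace (D.obj i)] [∀ i, QuasiSeparatedSpace (D.obj i)]
  {c : Cone D} {v : c.pt ⟶ T} [IsOpenImmersion v] {U : T.Opens}

namespace Setup

variable {d : Setup v U} [hg : Fact (Good d)]

/-- The map from the overlap to an affine piece, in the index. -/
abbrev Idx.toB (x : d.Idx) : (d.Wa x.a).toScheme ⟶ Spec (CommRingCat.of x.B) := d.toB x.a x.B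

instance toB_open (x : d.Idx) : IsOpenImmersion x.toB :=
  haveI := hg.out.qs
  (d.isOpenImmersion_toB x.a hg.out.aff x.adm).1

/-- The transition on overlaps. -/
abbrev wMap {x y : d.Idx} (h : x ⟶ y) : (d.Wa y.a).toScheme ⟶ (d.Wa x.a).toScheme :=
  (D.map (homOfLE h.le.1).op).resLE (d.Wa x.a) (d.Wa y.a) (le_Wa h.le.1 x.a y.a)

theorem wMap_ι {x y : d.Idx} (h : x ⟶ y) :
    (d.Wa y.a).ι ≫ D.map (homOfLE h.le.1).op = wMap h ≫ (d.Wa x.a).ι :=
  (Scheme.Hom.resLE_comp_ι _ _).symm

theorem wMap_toB {x y : d.Idx} (h : x ⟶ y) :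
    y.toB ≫ Spec.map (d.bRing.map h) = wMap h ≫ x.toB := by
  rw [Idx.toB, Idx.toB, Setup.toB, Setup.toB, resLE_toSpec]
  exact toSpec_comp _ _ _

/-- The map of stages. -/
abbrev dsMap {x y : d.Idx} (h : x ⟶ y) :
    pushout (d.Wa y.a).ι y.toB ⟶ pushout (d.Wa x.a).ι x.toB :=
  pushout.map _ _ _ _ (D.map (homOfLE h.le.1).op) (Spec.map (d.bRing.map h)) (wMap h) (wMap_ι h) (wMap_toB h)

variable (d) in
/-- The glued stages. -/
def DS : d.Idxᵒᵖ ⥤ Scheme.{u} where
  obj x := pushout (d.Wa x.unop.a).ι x.unop.toB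
  map {x y} h := dsMap h.unop
  map_id x := by
    apply pushout.hom_ext <;> simp only [pushout.inl_desc, pushout.inr_desc, Category.comp_id]
    · rw [show (homOfLE (𝟙 x : x ⟶ x).unop.le.1).op = 𝟙 _ from Subsingleton.elim _ _, D.map_id]
      exact Category.id_comp _
    · rw [unop_id, d.bRing.map_id]
      exact (congrArg (· ≫ _) (Spec.map_id _)).trans (Category.id_comp _)
  map_comp {x y z} h h' := by
    apply pushout.hom_ext <;> simp only [pushout.inl_desc, pushout.inr_desc, pushout.inl_desc_assoc, pushout.inr_desc_assoc, Category.assoc]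
    · rw [← D.map_comp_assoc]
      congr 2
    · rw [← Spec.map_comp_assoc, ← d.bRing.map_comp, unop_comp]

variable (d) in
/-- The old stages inside the new ones. -/
def νV : d.vSys ⟶ d.DS where
  app x := pushout.inl _ _
  naturality x y h := by
    show D.map _ ≫ pushout.inl _ _ = pushout.inl _ _ ≫ dsMap h.unop
    rw [pushout.inl_desc]
    congr 2

variable (d) in
/-- The affine stages inside the new ones. -/
def νB : d.bSys ⟶ d.DS where
  app x := pushout.inr _ _
  naturality x y h := by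
    show Spec.map (d.bRing.map h.unop) ≫ pushout.inr _ _ = pushout.inr _ _ ≫ dsMap h.unop
    rw [pushout.inr_desc]

instance isOpenImmersion_νV (x : d.Idxᵒᵖ) : IsOpenImmersion (d.νV.app x) :=
  isOpenImmersion_pushout_inl (d.Wa x.unop.a).ι x.unop.toB

instance isOpenImmersion_νB (x : d.Idxᵒᵖ) : IsOpenImmersion (d.νB.app x) :=
  isOpenImmersion_pushout_inr (d.Wa x.unop.a).ι x.unop.toB

theorem range_toB (x : d.Idx) :
    Set.range x.toB = ⋃ k, (PrimeSpectrum.basicOpen (⟨(d.f k, d.ga x.a k), x.adm.mem_g k⟩ : x.B) : Set (PrimeSpectrum x.B)) :=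
  haveI := hg.out.qs
  (d.isOpenImmersion_toB x.a hg.out.aff x.adm).2

theorem cart_V {x y : d.Idxᵒᵖ} (h : x ⟶ y) :
    d.DS.map h ⁻¹' Set.range (d.νV.app y) = Set.range (d.νV.app x) := by
  refine preimage_range_inl (d.Wa x.unop.a).ι x.unop.toB (d.Wa y.unop.a).ι y.unop.toB
    (D.map (homOfLE h.unop.le.1).op) (Spec.map (d.bRing.map h.unop)) (wMap h.unop) (wMap_ι h.unop) (wMap_toB h.unop) fun q hq => ?_
  rw [range_toB] at hq ⊢
  obtain ⟨k, hk⟩ := Set.mem_iUnion.1 hq
  refine Set.mem_iUnion.2 ⟨k, ?_⟩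
  have e : (d.bRing.map h.unop).hom ⟨(d.f k, d.ga y.unop.a k), y.unop.adm.mem_g k⟩ =
      (⟨(d.f k, d.ga x.unop.a k), x.unop.adm.mem_g k⟩ : x.unop.B) := Subtype.ext (rmap_g _ _ _ k)
  rw [← e]
  exact hk

theorem cart_B {x y : d.Idxᵒᵖ} (h : x ⟶ y) :
    d.DS.map h ⁻¹' Set.range (d.νB.app y) = Set.range (d.νB.app x) := by
  refine preimage_range_inr (d.Wa x.unop.a).ι x.unop.toB (d.Wa y.unop.a).ι y.unop.toB
    (D.map (homOfLE h.unop.le.1).op) (Spec.map (d.bRing.map h.unop)) (wMap h.unop) (wMap_ι h.unop) (wMap_toB h.unop) fun p hp => ?_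
  rw [Scheme.Opens.range_ι] at hp ⊢
  rw [← preimage_Wa' h.unop.le.1 y.unop.a x.unop.a]
  exact hp

theorem cover_DS (x : d.Idxᵒᵖ) : Set.range (d.νV.app x) ∪ Set.range (d.νB.app x) = Set.univ :=
  Set.eq_univ_of_forall fun z => pushout_cover (d.Wa x.unop.a).ι x.unop.toB z

theorem affine_DS {x y : d.Idxᵒᵖ} (h : x ⟶ y) : IsAffineHom (d.DS.map h) := by
  refine (IsZariskiLocalAtTarget.iff_of_iSup_eq_top (P := @IsAffineHom)
    (fun b : Bool => bif b then (d.νV.app y).opensRange else (d.νB.app y).opensRange) ?_).2 fun b => ?_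
  · refine eq_top_iff.2 fun z _ => ?_
    rcases (cover_DS y).ge (Set.mem_univ z) with hz | hz
    · exact Opens.mem_iSup.2 ⟨true, hz⟩
    · exact Opens.mem_iSup.2 ⟨false, hz⟩
  · cases b
    · haveI : IsAffineHom (d.bSys.map h) := inferInstanceAs (IsAffineHom (Spec.map _))
      exact isAffineHom_restrict _ _ _ _ (d.νB.naturality h).symm (cart_B h)
    · haveI : IsAffineHom (d.vSys.map h) := inferInstanceAs (IsAffineHom (D.map _))
      exact isAffineHom_restrict _ _ _ _ (d.νV.naturality h).symm (cart_V h)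

/-- The map from the affine open. -/
def uMap (x : d.Idx) : U.toScheme ⟶ Spec (CommRingCat.of x.B) :=
  toSpec U ((RingHom.fst Γ(T, U) Γ(D.obj (op x.i), d.Wa x.a)).comp x.B.val.toRingHom)

theorem uMap_bRing {x y : d.Idx} (h : x ⟶ y) : uMap y ≫ Spec.map (d.bRing.map h) = uMap x := by
  rw [uMap, uMap]
  exact toSpec_comp _ _ _

theorem glue_compat (x : d.Idx) :
    (v ⁻¹ᵁ U).ι ≫ c.π.app (op x.i) ≫ pushout.inl (d.Wa x.a).ι x.toB =
      v.resLE U (v ⁻¹ᵁ U) le_rfl ≫ uMap x ≫ pushout.inr (d.Wa x.a).ι x.toB := by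
  have h1 : (v ⁻¹ᵁ U).ι ≫ c.π.app (op x.i) = (c.π.app (op x.i)).resLE (d.Wa x.a) (v ⁻¹ᵁ U) (d.le_preimage x.a) ≫ (d.Wa x.a).ι :=
    (Scheme.Hom.resLE_comp_ι _ _).symm
  have h2 : (c.π.app (op x.i)).resLE (d.Wa x.a) (v ⁻¹ᵁ U) (d.le_preimage x.a) ≫ x.toB =
      v.resLE U (v ⁻¹ᵁ U) le_rfl ≫ uMap x := by
    rw [Idx.toB, Setup.toB, uMap, resLE_toSpec]
    refine Eq.trans ?_ (resLE_toSpec v le_rfl _).symm
    congr 1
    refine RingHom.ext fun p => ?_
    have hp : v.app U p.1.1 = (c.π.app (op x.i)).appLE (d.Wa x.a) (v ⁻¹ᵁ U) (d.le_preimage x.a) p.1.2 :=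
      (d.mem_Pair x.a).1 (x.adm.le_pair p.2)
    rw [Scheme.Hom.app_eq_appLE] at hp
    exact hp.symm
  rw [reassoc_of% h1, pushout.condition, reassoc_of% h2]

theorem exists_glue (hcov : Set.range v ∪ (U : Set T) = Set.univ) (x : d.Idxᵒᵖ) :
    ∃ g : T ⟶ d.DS.obj x, v ≫ g = c.π.app (op x.unop.i) ≫ d.νV.app x ∧ U.ι ≫ g = uMap x.unop ≫ d.νB.app x := by
  let 𝒰 := T.openCoverOfIsOpenCover (fun b : Bool => bif b then v.opensRange else U) (by
    rw [IsOpenCover, iSup_bool_eq]
    exact Opens.ext hcov)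
  have key : ∀ {P : Scheme.{u}} (p : P ⟶ v.opensRange.toScheme) (q : P ⟶ U.toScheme),
      p ≫ v.opensRange.ι = q ≫ U.ι →
      p ≫ v.isoOpensRange.inv ≫ c.π.app (op x.unop.i) ≫ d.νV.app x = q ≫ uMap x.unop ≫ d.νB.app x := by
    intro P p q hpq
    have hpv : (p ≫ v.isoOpensRange.inv) ≫ v = q ≫ U.ι := by
      rw [Category.assoc, Scheme.Hom.isoOpensRange_inv_comp, hpq]
    have hr : Set.range (p ≫ v.isoOpensRange.inv) ⊆ Set.range (v ⁻¹ᵁ U).ι := by
      rw [Scheme.Opens.range_ι]
      rintro _ ⟨z, rfl⟩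
      show v ((p ≫ v.isoOpensRange.inv) z) ∈ U
      rw [← Scheme.Hom.comp_apply, hpv]
      exact (q z).2
    let g' := IsOpenImmersion.lift (v ⁻¹ᵁ U).ι (p ≫ v.isoOpensRange.inv) hr
    have hg' : g' ≫ (v ⁻¹ᵁ U).ι = p ≫ v.isoOpensRange.inv := IsOpenImmersion.lift_fac _ _ _
    have hq : g' ≫ v.resLE U (v ⁻¹ᵁ U) le_rfl = q := by
      rw [← cancel_mono U.ι, Category.assoc, Scheme.Hom.resLE_comp_ι, reassoc_of% hg', Scheme.Hom.isoOpensRange_inv_comp]
      exact hpq
    rw [← reassoc_of% hg', ← hq, Category.assoc]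
    exact congrArg (g' ≫ ·) (glue_compat x.unop)
  let φ : ∀ b : Bool, (bif b then v.opensRange else U).toScheme ⟶ d.DS.obj x := fun b => match b with
    | true => v.isoOpensRange.inv ≫ c.π.app (op x.unop.i) ≫ d.νV.app x
    | false => uMap x.unop ≫ d.νB.app x
  refine ⟨𝒰.glueMorphisms φ ?_, ?_, ?_⟩
  · rintro (_ | _) (_ | _)
    · exact congrArg (· ≫ φ false) ((cancel_mono U.ι).1 pullback.condition)
    · exact (key _ _ pullback.condition.symm).symm
    · exact key _ _ pullback.condition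
    · exact congrArg (· ≫ φ true) ((cancel_mono v.opensRange.ι).1 pullback.condition)
  · rw [← cancel_epi v.isoOpensRange.inv, Scheme.Hom.isoOpensRange_inv_comp_assoc]
    exact 𝒰.ι_glueMorphisms φ _ true
  · exact 𝒰.ι_glueMorphisms φ _ false

theorem hom_ext_cover (hcov : Set.range v ∪ (U : Set T) = Set.univ) {Z : Scheme.{u}} {g g' : T ⟶ Z}
    (h₁ : v ≫ g = v ≫ g') (h₂ : U.ι ≫ g = U.ι ≫ g') : g = g' := by
  let 𝒰 := T.openCoverOfIsOpenCover (fun b : Bool => bif b then v.opensRange else U) (by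
    rw [IsOpenCover, iSup_bool_eq]
    exact Opens.ext hcov)
  refine 𝒰.hom_ext _ _ fun b => ?_
  cases b
  · exact h₂
  · show v.opensRange.ι ≫ g = v.opensRange.ι ≫ g'
    rw [← Scheme.Hom.isoOpensRange_inv_comp v, Category.assoc, Category.assoc, h₁]

variable (d) in
/-- The affine pieces map to the sections over the affine open. -/
def bCocone : Cocone d.bRing where
  pt := CommRingCat.of Γ(T, U)
  ι :=
    { app := fun x => CommRingCat.ofHom ((RingHom.fst Γ(T, U) Γ(D.obj (op x.i), d.Wa x.a)).comp x.B.val.toRingHom)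
      naturality := fun x y h => CommRingCat.hom_ext (RingHom.ext fun _ => rfl) }

theorem exists_isColimit_bRing (hc : IsLimit c) [IsDirected d.Idx (· ≤ ·)] [Nonempty d.Idx] :
    Nonempty (IsColimit d.bCocone) := by
  haveI := hg.out.qs
  refine AffLim.nonempty_isColimit_of_elementwise _ (fun r => ?_) (fun x p q e => ?_)
  · obtain ⟨j, φ, e, t, ht⟩ := exists_appLE_π_eq hc d.isCompact_W₁
      (c.pt.presheaf.map (homOfLE d.preimage_W₁.le).op (v.app U r))
    have hj : d.i₁.unop ≤ j.unop := φ.unop.le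
    let a : op j.unop ⟶ d.i₁ := (homOfLE hj).op
    have hat : (r, t) ∈ d.Pair (i := op j.unop) a := by
      rw [mem_Pair]
      have h1 := congrArg (c.pt.presheaf.map (homOfLE d.preimage_W₁.ge).op) ht
      have h2 : (c.π.app j).appLE _ (v ⁻¹ᵁ U) (d.le_preimage (i := op j.unop) a) t = v.app U r :=
        ((map_appLE_apply (X := c.pt) (c.π.app j) e d.preimage_W₁.ge t).symm.trans h1).trans
          (map_map_apply d.preimage_W₁.ge d.preimage_W₁.le _)
      exact h2.symm
    obtain ⟨B, hB, hle⟩ := exists_idx_ge hg.out hj (Algebra.adjoin ℤ {(r, t)})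
      (Algebra.adjoin_le (Set.singleton_subset_iff.2 hat)) (Subalgebra.fg_def.2 ⟨_, Set.finite_singleton _, rfl⟩)
    exact ⟨⟨j.unop, hj, B, hB⟩, ⟨(r, t), hle (Algebra.subset_adjoin rfl)⟩, rfl⟩
  · have e' : p.1.1 = q.1.1 := e
    have hp := (d.mem_Pair x.a).1 (x.adm.le_pair p.2)
    have hq := (d.mem_Pair x.a).1 (x.adm.le_pair q.2)
    rw [e', hq] at hp
    obtain ⟨j, φ, hj⟩ := exists_app_map_eq_map_of_isLimit D c hc (d.isCompact_Wa x.a) q.1.2 p.1.2 (by
      have h1 := congrArg (c.pt.presheaf.map (homOfLE (d.preimage_Wa x.a).le).op) hp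
      rw [Scheme.Hom.app_eq_appLE]
      exact (map_appLE_apply (X := c.pt) _ _ _ _).symm.trans (h1.trans (map_appLE_apply (X := c.pt) _ _ _ _)))
    have hij : x.i ≤ j.unop := φ.unop.le
    let a' : op j.unop ⟶ d.i₁ := (homOfLE (x.le.trans hij)).op
    obtain ⟨B, hB, hle⟩ := exists_idx_ge hg.out (x.le.trans hij) (x.B.map (d.rmap hij x.a a'))
      ((Subalgebra.map_le).2 (x.adm.le_pair.trans (rmap_pair hij _ _))) (x.adm.fg.map _)
    have hxy : x ≤ (⟨j.unop, x.le.trans hij, B, hB⟩ : d.Idx) := ⟨hij, hle⟩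
    refine ⟨_, hxy, Subtype.ext ?_⟩
    show d.rmap hij x.a a' p.1 = d.rmap hij x.a a' q.1
    refine Prod.ext e' ?_
    rw [rmap_snd, rmap_snd]
    simp only [Scheme.Hom.appLE, ConcreteCategory.comp_apply]
    exact congrArg ((D.obj j).presheaf.map _) hj.symm

include hg in
theorem nonempty_ext (hc : IsLimit c) (hcov : Set.range v ∪ (U : Set T) = Set.univ) :
    Nonempty (Ext c v) := by
  haveI := isDirected hg.out
  haveI := Setup.nonempty hg.out
  choose g hg₁ hg₂ using exists_glue (d := d) hcov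
  let π : (Functor.const d.Idxᵒᵖ).obj T ⟶ d.DS :=
    { app := g
      naturality := fun x y h => by
        refine (Category.id_comp (g y)).trans ?_
        refine hom_ext_cover hcov ?_ ?_
        · rw [hg₁ y, reassoc_of% (hg₁ x), ← d.νV.naturality h]
          exact (c.w_assoc _ _).symm
        · rw [hg₂ y, reassoc_of% (hg₂ x), ← d.νB.naturality h]
          exact (congrArg (· ≫ d.νB.app y) (uMap_bRing h.unop)).symm.trans (Category.assoc _ _ _) }
  haveI : Functor.Final d.proj.monotone.functor := by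
    rw [Monotone.final_functor_iff]
    intro i
    obtain ⟨j, h₁, h₂⟩ := exists_ge_ge i d.i₁.unop
    obtain ⟨B, hB, -⟩ := exists_idx_ge hg.out (i := j) h₂ ⊥ bot_le Subalgebra.fg_bot
    exact ⟨⟨j, h₂, B, hB⟩, h₁⟩
  let cV : Cone d.vSys := c.whisker d.proj.monotone.functor.op
  have hcV : IsLimit cV := (Functor.Initial.isLimitWhiskerEquiv _ c).symm hc
  obtain ⟨hB⟩ := exists_isColimit_bRing (d := d) hc
  let cB0 : Cone d.bSys := Scheme.Spec.mapCone d.bCocone.op
  have hcB0 : IsLimit cB0 := isLimitOfPreserves Scheme.Spec hB.op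
  let cB : Cone d.bSys := cB0.extend hg.out.aff.isoSpec.hom
  have hcB : IsLimit cB := hcB0.ofIsoLimit (Cone.ext hg.out.aff.isoSpec.symm (fun x => by simp [cB]))
  have hwB : ∀ x, U.ι ≫ g x = cB.π.app x ≫ d.νB.app x := fun x => by
    rw [hg₂ x]
    refine congrArg (· ≫ d.νB.app x) ?_
    show uMap x.unop = hg.out.aff.isoSpec.hom ≫ Spec.map _
    rw [hg.out.aff.isoSpec_hom]
    rfl
  have hpreV : ∀ x, g x ⁻¹' Set.range (d.νV.app x) = Set.range v := fun x => by
    ext z
    constructor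
    · intro hz
      rcases hcov.ge (Set.mem_univ z) with h | h
      · exact h
      · obtain ⟨p, hp⟩ := hz
        have e : d.νB.app x (uMap x.unop ⟨z, h⟩) = g x z :=
          ((Scheme.Hom.comp_apply _ _ _).symm.trans (congrArg (fun m : U.toScheme ⟶ d.DS.obj x => m ⟨z, h⟩) (hg₂ x)).symm).trans
            (Scheme.Hom.comp_apply _ _ _)
        obtain ⟨w, -, hw⟩ := pushout_inter (d.Wa x.unop.a).ι x.unop.toB (hp.trans e.symm)
        have hw' : uMap x.unop ⟨z, h⟩ ∈ Set.range x.unop.toB := ⟨w, hw⟩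
        rw [range_toB] at hw'
        obtain ⟨k, hk⟩ := Set.mem_iUnion.1 hw'
        refine d.le_range k ?_
        have hk' : (⟨z, h⟩ : U.toScheme) ∈ uMap x.unop ⁻¹ᵁ PrimeSpectrum.basicOpen _ := hk
        rw [uMap, toSpec_preimage] at hk'
        exact hk'
    · rintro ⟨p, rfl⟩
      refine ⟨c.π.app (op x.unop.i) p, ?_⟩
      exact (((Scheme.Hom.comp_apply _ _ _).symm.trans (congrArg (fun m : c.pt ⟶ d.DS.obj x => m p) (hg₁ x))).trans
        (Scheme.Hom.comp_apply _ _ _)).symm
  have hpreB : ∀ x, g x ⁻¹' Set.range (d.νB.app x) = Set.range U.ι := fun x => by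
    rw [Scheme.Opens.range_ι]
    ext z
    constructor
    · rintro ⟨q, hq⟩
      rcases hcov.ge (Set.mem_univ z) with ⟨p, rfl⟩ | h
      · have e : d.νV.app x (c.π.app (op x.unop.i) p) = g x (v p) :=
          (((Scheme.Hom.comp_apply _ _ _).symm.trans (congrArg (fun m : c.pt ⟶ d.DS.obj x => m p) (hg₁ x))).trans
            (Scheme.Hom.comp_apply _ _ _)).symm
        obtain ⟨w, hw, -⟩ := pushout_inter (d.Wa x.unop.a).ι x.unop.toB (e.trans hq.symm)
        have : p ∈ c.π.app (op x.unop.i) ⁻¹ᵁ d.Wa x.unop.a := by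
          show c.π.app (op x.unop.i) p ∈ d.Wa x.unop.a
          rw [← hw]; exact w.2
        rw [d.preimage_Wa] at this
        exact this
      · exact h
    · intro h
      refine ⟨uMap x.unop ⟨z, h⟩, ?_⟩
      exact (((Scheme.Hom.comp_apply _ _ _).symm.trans (congrArg (fun m : U.toScheme ⟶ d.DS.obj x => m ⟨z, h⟩) (hg₂ x))).trans
        (Scheme.Hom.comp_apply _ _ _)).symm
  haveI : ∀ {x y : d.Idxᵒᵖ} (h : x ⟶ y), IsAffineHom (d.DS.map h) := fun h => affine_DS h
  obtain ⟨hlim⟩ := nonempty_isLimit_of_two d.νV d.νB (fun h => cart_V h) (fun h => cart_B h) cover_DS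
    (Cone.mk T π) cV hcV cB hcB v (fun x => hg₁ x) hpreV U.ι hwB hpreB
  exact ⟨
    { J := d.Idx
      preorder := inferInstance
      directed := inferInstance
      nonempty := inferInstance
      DS := d.DS
      π := π
      isLimit := hlim
      affine := fun _ _ h => affine_DS h
      compact := fun x => by
        haveI : CompactSpace ↥(Spec (CommRingCat.of x.unop.B)) := inferInstance
        exact compactSpace_pushout (d.Wa x.unop.a).ι x.unop.toB
      ft := fun x => by
        refine IsZariskiLocalAtSource.of_openCover (P := @LocallyOfFiniteType)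
          (f := specULiftZIsTerminal.from (d.DS.obj x)) ?_ ?_
        · exact (d.DS.obj x).openCoverOfIsOpenCover
            (fun b : Bool => bif b then (d.νV.app x).opensRange else (d.νB.app x).opensRange) (by
              rw [IsOpenCover, iSup_bool_eq]
              exact Opens.ext (cover_DS x))
        intro b
        cases b
        · show LocallyOfFiniteType ((d.νB.app x).opensRange.ι ≫ _)
          rw [← Scheme.Hom.isoOpensRange_inv_comp (d.νB.app x), Category.assoc]
          haveI : LocallyOfFiniteType (d.νB.app x ≫ specULiftZIsTerminal.from (d.DS.obj x)) := by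
            rw [specULiftZIsTerminal.hom_ext (d.νB.app x ≫ _)
              (Spec.map (CommRingCat.ofHom ((algebraMap ℤ x.unop.B).comp (ULift.ringEquiv.{0, u} (R := ℤ)).toRingHom)))]
            refine (HasRingHomProperty.Spec_iff (P := @LocallyOfFiniteType)).2 ?_
            haveI : Algebra.FiniteType ℤ x.unop.B := (Subalgebra.fg_iff_finiteType _).1 x.unop.adm.fg
            exact ((RingHom.finiteType_algebraMap (A := ℤ) (B := x.unop.B)).2 ‹Algebra.FiniteType ℤ x.unop.B›).comp
              (RingHom.FiniteType.of_surjective _ (ULift.ringEquiv.{0, u} (R := ℤ)).surjective)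
          infer_instance
        · show LocallyOfFiniteType ((d.νV.app x).opensRange.ι ≫ _)
          rw [← Scheme.Hom.isoOpensRange_inv_comp (d.νV.app x), Category.assoc]
          haveI : LocallyOfFiniteType (d.νV.app x ≫ specULiftZIsTerminal.from (d.DS.obj x)) := by
            rw [specULiftZIsTerminal.hom_ext (d.νV.app x ≫ _) (specULiftZIsTerminal.from (d.vSys.obj x))]
            exact hg.out.ft _
          infer_instance
      α := d.proj
      ν := d.νV
      isOpenImmersion := fun x => inferInstance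
      cart := fun _ _ h => cart_V h
      comm := fun x => hg₁ x
      pre := hpreV }⟩

end Setup

variable (hc : IsLimit c)

include hc in
/-- Extending a presentation over one affine open. -/
theorem nonempty_ext_of_affine [QuasiSeparatedSpace T] (hU : IsAffineOpen U)
    (hft : ∀ i, LocallyOfFiniteType (specULiftZIsTerminal.from (D.obj i)))
    (hcov : Set.range v ∪ (U : Set T) = Set.univ) : Nonempty (Ext c v) := by
  haveI : CompactSpace c.pt := Scheme.compactSpace_of_isLimit D c hc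
  obtain ⟨d⟩ := exists_setup hc v U hU
  haveI : Fact (Setup.Good d) := ⟨⟨hU, quasiSeparatedSpace_of_quasiSeparated v, by
    rw [← d.preimage_W₁]
    haveI := isAffineHom_π_app D c hc d.i₁
    exact QuasiCompact.isCompact_preimage (f := c.π.app d.i₁) _ d.W₁.2 d.isCompact_W₁, hft⟩⟩
  exact Setup.nonempty_ext (d := d) hc hcov

end Groth.Agent.ApproxZLib
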