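import Groth.Agent.ApproxZLib.Stage
import Groth.Agent.ApproxZLib.Glue
import Groth.Agent.FPModelLib.ZSys

/-! The inverse system gluing an affine open to a limit. -/

set_option autoImplicit false
set_option backward.isDefEq.respectTransparency false
set_option backward.defeqAttrib.useBackward true
set_option linter.unusedSectionVars false
set_option linter.style.haveILetI false

universe u

open CategoryTheory CategoryTheory.Limits AlgebraicGeometry TopologicalSpace Opposite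

noncomputable section

namespace Groth.Agent.ApproxZLib

theorem resLE_toSpec {X Y : Scheme.{u}} (f : Y ⟶ X) {W : X.Opens} {W' : Y.Opens} (e : W' ≤ f ⁻¹ᵁ W)
    {B : Type u} [CommRing B] (φ : B →+* Γ(X, W)) :
    f.resLE W W' e ≫ toSpec W φ = toSpec W' ((f.appLE W W' e).hom.comp φ) := by
  rw [toSpec, toSpec, show CommRingCat.ofHom ((f.appLE W W' e).hom.comp φ) =
    CommRingCat.ofHom φ ≫ f.appLE W W' e from rfl, Spec.map_comp]
  simp only [← Category.assoc]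
  congr 1
  exact (Scheme.Opens.toSpecΓ_SpecMap_appLE f W W' e).symm

theorem toSpec_comp {X : Scheme.{u}} (W : X.Opens) {B B' : Type u} [CommRing B] [CommRing B'] (φ : B →+* Γ(X, W))
    (ψ : B' →+* B) : toSpec W φ ≫ Spec.map (CommRingCat.ofHom ψ) = toSpec W (φ.comp ψ) := by
  rw [toSpec, toSpec, CommRingCat.ofHom_comp, Spec.map_comp, Category.assoc]

variable {T : Scheme.{u}} {I : Type u} [Preorder I] [IsDirected I (· ≤ ·)] [Nonempty I]
  {D : Iᵒᵖ ⥤ Scheme.{u}} [∀ {i j} (a : i ⟶ j), IsAffineHom (D.map a)]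
  [∀ i, CompactSpace (D.obj i)] [∀ i, QuasiSeparatedSpace (D.obj i)]
  {c : Cone D} {v : c.pt ⟶ T} [IsOpenImmersion v] {U : T.Opens}

namespace Setup

variable (d : Setup v U)

/-- The indices: a stage and an admissible subring. -/
structure Idx where
  i : I
  le : d.i₁.unop ≤ i
  B : Subalgebra ℤ (Γ(T, U) × Γ(D.obj (op i), d.Wa (i := op i) (homOfLE le).op))
  adm : d.IsAdm (i := op i) (homOfLE le).op B

variable {d}

abbrev Idx.a (x : d.Idx) : op x.i ⟶ d.i₁ := (homOfLE x.le).op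

theorem le_Wa {i i' : I} (h : i ≤ i') (a : op i ⟶ d.i₁) (a' : op i' ⟶ d.i₁) :
    d.Wa a' ≤ D.map (homOfLE h).op ⁻¹ᵁ d.Wa a := by
  rw [← Scheme.Hom.comp_preimage, ← D.map_comp, Subsingleton.elim ((homOfLE h).op ≫ a) a']

theorem preimage_Wa' {i i' : I} (h : i ≤ i') (a : op i ⟶ d.i₁) (a' : op i' ⟶ d.i₁) :
    D.map (homOfLE h).op ⁻¹ᵁ d.Wa a = d.Wa a' := by
  rw [← Scheme.Hom.comp_preimage, ← D.map_comp, Subsingleton.elim ((homOfLE h).op ≫ a) a']

variable (d) in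
/-- The transition map on pairs. -/
def rmap {i i' : I} (h : i ≤ i') (a : op i ⟶ d.i₁) (a' : op i' ⟶ d.i₁) :
    Γ(T, U) × Γ(D.obj (op i), d.Wa a) →ₐ[ℤ] Γ(T, U) × Γ(D.obj (op i'), d.Wa a') :=
  (RingHom.prodMap (RingHom.id Γ(T, U)) ((D.map (homOfLE h).op).appLE (d.Wa a) (d.Wa a') (le_Wa h a a')).hom).toIntAlgHom

theorem rmap_fst {i i' : I} (h : i ≤ i') (a : op i ⟶ d.i₁) (a' : op i' ⟶ d.i₁) (p : Γ(T, U) × Γ(D.obj (op i), d.Wa a)) :
    (d.rmap h a a' p).1 = p.1 := rfl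

theorem rmap_snd {i i' : I} (h : i ≤ i') (a : op i ⟶ d.i₁) (a' : op i' ⟶ d.i₁) (p : Γ(T, U) × Γ(D.obj (op i), d.Wa a)) :
    (d.rmap h a a' p).2 = (D.map (homOfLE h).op).appLE (d.Wa a) (d.Wa a') (le_Wa h a a') p.2 := rfl

theorem rmap_g {i i' : I} (h : i ≤ i') (a : op i ⟶ d.i₁) (a' : op i' ⟶ d.i₁) (k : d.ι) :
    d.rmap h a a' (d.f k, d.ga a k) = (d.f k, d.ga a' k) := by
  refine Prod.ext rfl ?_
  rw [rmap_snd]
  simp only [ga, Scheme.Hom.app_eq_appLE, ← ConcreteCategory.comp_apply, Scheme.Hom.appLE_comp_appLE, ← D.map_comp,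
    Subsingleton.elim ((homOfLE h).op ≫ a) a']

theorem rmap_rmap {i i' i'' : I} (h : i ≤ i') (h' : i' ≤ i'') (a : op i ⟶ d.i₁) (a' : op i' ⟶ d.i₁)
    (a'' : op i'' ⟶ d.i₁) (p : Γ(T, U) × Γ(D.obj (op i), d.Wa a)) :
    d.rmap h' a' a'' (d.rmap h a a' p) = d.rmap (h.trans h') a a'' p := by
  refine Prod.ext rfl ?_
  simp only [rmap_snd, ← ConcreteCategory.comp_apply, Scheme.Hom.appLE_comp_appLE, ← D.map_comp, ← op_comp,
    homOfLE_comp]

theorem rmap_refl {i : I} (a : op i ⟶ d.i₁) (p : Γ(T, U) × Γ(D.obj (op i), d.Wa a)) :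
    d.rmap le_rfl a a p = p := by
  refine Prod.ext rfl ?_
  simp only [rmap_snd, homOfLE_refl, op_id, CategoryTheory.Functor.map_id]
  simp [Scheme.Hom.appLE]
  exact congrArg (fun m => (ConcreteCategory.hom m) p.2) ((D.obj (op i)).presheaf.map_id (op (d.Wa a)))

theorem rmap_pair {i i' : I} (h : i ≤ i') (a : op i ⟶ d.i₁) (a' : op i' ⟶ d.i₁) :
    d.Pair a ≤ (d.Pair a').comap (d.rmap h a a') := fun p hp => by
  rw [Subalgebra.mem_comap, mem_Pair, rmap_fst, rmap_snd, (d.mem_Pair a).1 hp]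
  simp only [← ConcreteCategory.comp_apply, Scheme.Hom.appLE_comp_appLE, c.w]
  rfl

instance : Preorder d.Idx where
  le x y := ∃ h : x.i ≤ y.i, x.B.map (d.rmap h x.a y.a) ≤ y.B
  le_refl x := ⟨le_rfl, fun p hp => by
    obtain ⟨q, hq, rfl⟩ := Subalgebra.mem_map.1 hp
    rw [rmap_refl]; exact hq⟩
  le_trans x y z := fun ⟨h, hB⟩ ⟨h', hB'⟩ => ⟨h.trans h', fun p hp => by
    obtain ⟨q, hq, rfl⟩ := Subalgebra.mem_map.1 hp
    rw [← rmap_rmap h h' x.a y.a z.a q]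
    exact hB' (Subalgebra.mem_map.2 ⟨_, hB (Subalgebra.mem_map.2 ⟨q, hq, rfl⟩), rfl⟩)⟩

theorem finiteType_res (hft : ∀ i, LocallyOfFiniteType (specULiftZIsTerminal.from (D.obj i)))
    {i : Iᵒᵖ} (a : i ⟶ d.i₁) (k : d.ι) :
    (((D.obj i).presheaf.map (homOfLE ((D.obj i).basicOpen_le (d.ga a k))).op).hom.comp
      (algebraMap ℤ Γ(D.obj i, d.Wa a))).FiniteType := by
  haveI := hft i
  have h := HasRingHomProperty.appLE (P := @LocallyOfFiniteType) (specULiftZIsTerminal.from (D.obj i)) inferInstance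
    ⟨⊤, isAffineOpen_top _⟩ ⟨_, d.aff_Wa a k⟩ le_top
  have h0 : (algebraMap ℤ (ULift.{u} ℤ)).FiniteType :=
    RingHom.FiniteType.of_surjective _ fun x => ⟨x.down, ULift.ext _ _ (by simp)⟩
  have h1 : ((Scheme.ΓSpecIso (CommRingCat.of (ULift.{u} ℤ))).inv.hom).FiniteType :=
    RingHom.FiniteType.of_surjective _ (ConcreteCategory.bijective_of_isIso (Scheme.ΓSpecIso (CommRingCat.of (ULift.{u} ℤ))).inv).2
  have h2 := h.comp (h1.comp h0)
  convert h2 using 1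
  exact Subsingleton.elim _ _

structure Good (d : Setup v U) : Prop where
  aff : IsAffineOpen U
  qs : QuasiSeparatedSpace c.pt
  cpt : IsCompact ((v ⁻¹ᵁ U : c.pt.Opens) : Set c.pt)
  ft : ∀ i, LocallyOfFiniteType (specULiftZIsTerminal.from (D.obj i))

variable (hd : Good d)

include hd in
theorem exists_idx_ge {i : I} (hi : d.i₁.unop ≤ i) (S : Subalgebra ℤ (Γ(T, U) × Γ(D.obj (op i), d.Wa (i := op i) (homOfLE hi).op)))
    (hS : S ≤ d.Pair (i := op i) (homOfLE hi).op) (hfg : S.FG) :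
    ∃ B, d.IsAdm (i := op i) (homOfLE hi).op B ∧ S ≤ B := by
  haveI := hd.qs
  obtain ⟨B, hB⟩ := d.exists_isAdm (i := op i) (homOfLE hi).op hd.aff hd.cpt (finiteType_res hd.ft _)
  exact ⟨B ⊔ S, hB.mono le_sup_left (hB.fg.sup hfg) (sup_le hB.le_pair hS), le_sup_right⟩

include hd in
theorem isDirected : IsDirected d.Idx (· ≤ ·) := ⟨fun x y => by
  obtain ⟨i, hx, hy⟩ := exists_ge_ge x.i y.i
  obtain ⟨B, hB, hle⟩ := exists_idx_ge hd (i := i) (x.le.trans hx)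
    (x.B.map (d.rmap hx x.a (homOfLE (x.le.trans hx)).op) ⊔ y.B.map (d.rmap hy y.a (homOfLE (x.le.trans hx)).op))
    (sup_le ((Subalgebra.map_le).2 (x.adm.le_pair.trans (rmap_pair hx _ _)))
      ((Subalgebra.map_le).2 (y.adm.le_pair.trans (rmap_pair hy _ _))))
    ((x.adm.fg.map _).sup (y.adm.fg.map _))
  exact ⟨⟨i, x.le.trans hx, B, hB⟩, ⟨hx, le_sup_left.trans hle⟩, ⟨hy, le_sup_right.trans hle⟩⟩⟩

include hd in
theorem nonempty : Nonempty d.Idx := by
  obtain ⟨B, hB, -⟩ := exists_idx_ge hd (i := d.i₁.unop) le_rfl ⊥ bot_le Subalgebra.fg_bot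
  exact ⟨⟨_, le_rfl, B, hB⟩⟩

variable (d) in
/-- The projection of indices. -/
def proj : d.Idx →o I := ⟨fun x => x.i, fun _ _ h => h.1⟩

variable (d) in
/-- The subrings. -/
def bRing : d.Idx ⥤ CommRingCat.{u} where
  obj x := CommRingCat.of x.B
  map {x y} h := CommRingCat.ofHom ((((d.rmap h.le.1 x.a y.a).comp x.B.val).codRestrict y.B
    fun p => h.le.2 (Subalgebra.mem_map.2 ⟨p.1, p.2, rfl⟩)).toRingHom)
  map_id x := by
    refine CommRingCat.hom_ext (RingHom.ext fun p => Subtype.ext ?_)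
    exact rmap_refl x.a p.1
  map_comp {x y z} h h' := by
    refine CommRingCat.hom_ext (RingHom.ext fun p => Subtype.ext ?_)
    exact (rmap_rmap h.le.1 h'.le.1 x.a y.a z.a p.1).symm

theorem bRing_map_coe {x y : d.Idx} (h : x ⟶ y) (p : x.B) :
    (((d.bRing).map h).hom p).1 = d.rmap h.le.1 x.a y.a p.1 := rfl

variable (d) in
/-- The affine pieces. -/
def bSys : d.Idxᵒᵖ ⥤ Scheme.{u} := (d.bRing).op ⋙ Scheme.Spec

variable (d) in
/-- The old stages. -/
def vSys : d.Idxᵒᵖ ⥤ Scheme.{u} := d.proj.monotone.functor.op ⋙ D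


end Setup

end Groth.Agent.ApproxZLib
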